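import Mathlib.GroupTheory.PGroup
import Mathlib.GroupTheory.OrderOfElement
import Mathlib.GroupTheory.Index
import Cfsg.Agent.Lib.Coprime.Generation

set_option autoImplicit false

/-! Actions on groups of exponent two without a natural `S₃`-constituent.

* `NoNat X`: no four-subgroup of `V` on which two elements of `X` induce a natural `S₃`;
* `transvection_trivial`: an odd element inverted by an involution of small commutator is trivial;
* `sq_bound`: `|A|² ≤ |V : C_V(A)|` for an elementary abelian 2-group acting faithfully on an odd group;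
* `sq_bound_eq`: the case of equality;
* `exists_regular`: an elementary abelian 2-group faithful on an odd group has a regular orbit. -/

namespace Cfsg.Agent.TwoLocalFree

open Subgroup

universe u

variable {V : Type u} [Group V]

/-- The fixed points of a set of automorphisms. -/
def fixSet (A : Set (MulAut V)) : Subgroup V where
  carrier := {v | ∀ a ∈ A, a v = v}
  one_mem' := fun a _ => map_one a
  mul_mem' := fun {x y} hx hy a ha => by rw [map_mul, hx a ha, hy a ha]
  inv_mem' := fun {x} hx a ha => by rw [map_inv, hx a ha]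

theorem mem_fixSet {A : Set (MulAut V)} {v : V} : v ∈ fixSet A ↔ ∀ a ∈ A, a v = v := Iff.rfl

theorem fixSet_anti {A B : Set (MulAut V)} (h : A ⊆ B) : fixSet B ≤ fixSet A :=
  fun _ hv a ha => hv a (h ha)

/-- No pair of elements of `X` induces a natural `S₃` on a four-subgroup of `V`. -/
def NoNat (X : Subgroup (MulAut V)) : Prop :=
  ∀ (W : Subgroup V), ∀ z ∈ X, ∀ r ∈ X, Nat.card W = 4 → (∀ w ∈ W, z w ∈ W) → (∀ w ∈ W, r w ∈ W) →
    (∀ w ∈ W, r w = w → w = 1) → (∃ w ∈ W, w ≠ 1 ∧ z w = w) → ∀ w ∈ W, z w = w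

theorem inv_eq_self (hV : ∀ v : V, v * v = 1) (v : V) : v⁻¹ = v := inv_eq_of_mul_eq_one_right (hV v)

theorem comm_of_exp (hV : ∀ v : V, v * v = 1) (a b : V) : a * b = b * a := by
  have h := inv_eq_self hV (a * b)
  rw [mul_inv_rev, inv_eq_self hV, inv_eq_self hV] at h
  exact h.symm

theorem isPGroup_of_exp (hV : ∀ v : V, v * v = 1) : IsPGroup 2 V :=
  fun v => ⟨1, by rw [pow_one, pow_two]; exact hV v⟩

theorem eq_of_sq_eq {r : MulAut V} (hr : Odd (orderOf r)) {v : V} (h : r (r v) = v) : r v = v := by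
  have hk : ∀ k : ℕ, (r ^ (2 * k)) v = v := by
    intro k
    induction k with
    | zero => rfl
    | succ k ih =>
      rw [show 2 * (k + 1) = 2 * k + 2 by ring, pow_add, MulAut.mul_apply, pow_two, MulAut.mul_apply,
        h, ih]
  obtain ⟨m, hm⟩ := hr
  have h1 : (r ^ (2 * (m + 1))) v = r v := by
    rw [show 2 * (m + 1) = orderOf r + 1 by omega, pow_succ, pow_orderOf_eq_one, one_mul]
  rw [← h1, hk]

/-- `v ↦ r(v) v`. -/
def dev (hV : ∀ v : V, v * v = 1) (r : MulAut V) : V →* V where
  toFun v := r v * v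
  map_one' := by rw [map_one, one_mul]
  map_mul' a b := by
    rw [map_mul, mul_assoc, mul_assoc, ← mul_assoc (r b) a b, comm_of_exp hV (r b) a, mul_assoc]

theorem eq_one_of_dev_fixed (hV : ∀ v : V, v * v = 1) {r : MulAut V} (hr : Odd (orderOf r)) {u : V}
    (h : r (r u * u) = r u * u) : r u * u = 1 := by
  have h2 : r u = u := eq_of_sq_eq hr (by
    rw [map_mul] at h
    rw [comm_of_exp hV (r u) u] at h
    exact mul_right_cancel h)
  rw [h2, hV]

theorem map_eq_self_of_invariant [Finite V] {U : Subgroup V} {r : MulAut V}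
    (hr : ∀ u ∈ U, r u ∈ U) : U.map r.toMonoidHom = U := by
  refine Subgroup.eq_of_le_of_card_ge ?_ (le_of_eq ?_)
  · rintro _ ⟨u, hu, rfl⟩; exact hr u hu
  · rw [Subgroup.card_map_of_injective]
    exact r.injective

theorem relIndex_fix_conj [Finite V] {U : Subgroup V} {r : MulAut V} (hr : ∀ u ∈ U, r u ∈ U)
    (z : MulAut V) : (fixSet {r * z * r⁻¹}).relIndex U = (fixSet {z}).relIndex U := by
  conv_lhs => rw [← map_eq_self_of_invariant hr]
  have : fixSet {r * z * r⁻¹} = (fixSet {z}).map r.toMonoidHom := by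
    ext v
    simp only [mem_map, mem_fixSet, Set.mem_singleton_iff, forall_eq]
    constructor
    · intro h
      refine ⟨r⁻¹ v, ?_, by simp⟩
      have := congrArg (⇑r⁻¹) h
      simpa using this
    · rintro ⟨w, hw, rfl⟩
      simp [hw]
  rw [this, relIndex_map_map_of_injective _ _ r.injective]

/-- An element of odd order inverted by an involution acting as a transvection acts trivially. -/
theorem transvection_trivial [Finite V] (hV : ∀ v : V, v * v = 1) {X : Subgroup (MulAut V)}
    (hX : NoNat X) {z r : MulAut V} (hz : z ∈ X) (hr : r ∈ X) (hzz : z * z = 1)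
    (hinv : z * r * z = r⁻¹) (hodd : Odd (orderOf r)) {U : Subgroup V} (hzU : ∀ u ∈ U, z u ∈ U)
    (hrU : ∀ u ∈ U, r u ∈ U) (hidx : (fixSet {z}).relIndex U ≤ 2) : ∀ u ∈ U, r u = u := by
  have hzr : z * r⁻¹ * z = r := by
    rw [← hinv]
    calc z * (z * r * z) * z = (z * z) * r * (z * z) := by group
      _ = r := by rw [hzz, one_mul, mul_one]
  have hkey : fixSet {z} ⊓ fixSet {r * z * r⁻¹} ≤ fixSet {r} := by
    rintro v ⟨h1, h2⟩ a rfl
    have e1 : z v = v := h1 z rfl
    have e2 : (a * z * a⁻¹) v = v := h2 _ rfl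
    refine eq_of_sq_eq hodd ?_
    have e3 : a * z * a⁻¹ * z = a * a := by
      calc a * z * a⁻¹ * z = a * (z * a⁻¹ * z) := by group
        _ = a * a := by rw [hzr]
    have := DFunLike.congr_fun e3 v
    have h' : (a * z * a⁻¹) (z v) = a (a v) := this
    rw [e1, e2] at h'
    exact h'.symm
  set c := (dev hV r).comp U.subtype
  set W := c.range
  have hWU : W ≤ U := by
    rintro _ ⟨u, rfl⟩
    exact mul_mem (hrU _ u.2) u.2
  have hcard : Nat.card W ≤ 4 := by
    rw [← index_ker c]
    have hker : c.ker = (fixSet {r}).subgroupOf U := by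
      ext u
      rw [MonoidHom.mem_ker, mem_subgroupOf, mem_fixSet]
      simp only [Set.mem_singleton_iff, forall_eq]
      show r (u : V) * u = 1 ↔ r (u : V) = u
      rw [mul_eq_one_iff_eq_inv, inv_eq_self hV]
    rw [hker]
    show (fixSet {r}).relIndex U ≤ 4
    calc (fixSet {r}).relIndex U ≤ (fixSet {z} ⊓ fixSet {r * z * r⁻¹}).relIndex U :=
          Nat.le_of_dvd (Nat.pos_of_ne_zero Subgroup.index_ne_zero_of_finite) (relIndex_dvd_of_le_left U hkey)
      _ ≤ (fixSet {z}).relIndex U * (fixSet {r * z * r⁻¹}).relIndex U := relIndex_inf_le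
      _ ≤ 2 * 2 := Nat.mul_le_mul hidx (relIndex_fix_conj hrU z ▸ hidx)
      _ = 4 := rfl
  have hrW : ∀ w ∈ W, r w ∈ W := by
    rintro _ ⟨u, rfl⟩
    exact ⟨⟨r u, hrU _ u.2⟩, (map_mul r (r (u : V)) u).symm⟩
  have hzW : ∀ w ∈ W, z w ∈ W := by
    rintro _ ⟨u, rfl⟩
    have hU' : r⁻¹ (z u) ∈ U := by
      obtain ⟨y, hy, hy'⟩ := (map_eq_self_of_invariant hrU).ge (hzU _ u.2)
      rw [← hy']
      simpa using hy
    refine ⟨⟨_, hU'⟩, ?_⟩
    show r (r⁻¹ (z u)) * r⁻¹ (z u) = z (r u * u)
    have e : z (r u) = r⁻¹ (z u) := by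
      have := DFunLike.congr_fun hinv (z u)
      have e2 : z (z (u : V)) = u := DFunLike.congr_fun hzz (u : V)
      rw [MulAut.mul_apply, MulAut.mul_apply, e2] at this
      exact this
    rw [map_mul, e, MulAut.apply_inv_self]
    exact comm_of_exp hV _ _
  have hfix : ∀ w ∈ W, r w = w → w = 1 := by
    rintro _ ⟨u, rfl⟩ h
    exact eq_one_of_dev_fixed hV hodd h
  suffices hW : W = ⊥ by
    intro u hu
    have : r u * u ∈ W := ⟨⟨u, hu⟩, rfl⟩
    rw [hW, Subgroup.mem_bot, mul_eq_one_iff_eq_inv, inv_eq_self hV] at this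
    exact this
  by_contra hW
  obtain ⟨w, hwW, hw1⟩ := (Subgroup.bot_or_exists_ne_one W).resolve_left hW
  have h2 : 2 < Nat.card W := by
    by_contra h
    have hle : Nat.card W ≤ 2 := Nat.not_lt.1 h
    have hsub : ({1, w, r w} : Set V) ⊆ W := by
      rintro x (rfl | rfl | rfl)
      exacts [one_mem _, hwW, hrW _ hwW]
    have h1 : r w ≠ w := fun e => hw1 (hfix w hwW e)
    have h3 : r w ≠ 1 := fun e => hw1 (r.injective (e.trans (map_one r).symm))
    have hc : ({1, w, r w} : Set V).ncard = 3 := Set.ncard_eq_three.2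
      ⟨1, w, r w, fun e => hw1 e.symm, fun e => h3 e.symm, fun e => h1 e.symm, rfl⟩
    have := Set.ncard_le_ncard hsub (Set.toFinite _)
    rw [hc, show ((W : Set V)).ncard = Nat.card W from (Nat.card_coe_set_eq _).symm] at this
    omega
  have h4 : Nat.card W = 4 := by
    haveI : Fact (Nat.Prime 2) := ⟨Nat.prime_two⟩
    obtain ⟨n, hn⟩ := IsPGroup.iff_card.1 ((isPGroup_of_exp hV).to_subgroup W)
    have hn2 : n ≤ 2 := by
      by_contra hn3
      have : 2 ^ 3 ≤ 2 ^ n := Nat.pow_le_pow_right two_pos (by omega)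
      omega
    interval_cases n <;> omega
  have hall := hX W z hz r hr h4 hzW hrW hfix (by
    by_cases h : z w = w
    · exact ⟨w, hwW, hw1, h⟩
    · refine ⟨w * z w, mul_mem hwW (hzW w hwW), fun e => h ?_, ?_⟩
      · rw [mul_eq_one_iff_eq_inv, inv_eq_self hV] at e; exact e.symm
      · have e2 : z (z w) = w := DFunLike.congr_fun hzz w
        rw [map_mul, e2, comm_of_exp hV])
  refine hw1 (hfix w hwW (eq_of_sq_eq hodd ?_))
  have := DFunLike.congr_fun hinv w
  rw [MulAut.mul_apply, MulAut.mul_apply, hall w hwW, hall (r w) (hrW w hwW)] at this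
  rw [this, MulAut.apply_inv_self]

/-- `P × Q`: an odd element commuting with an elementary abelian 2-group and trivial on its fixed
points is trivial. -/
theorem eq_one_of_fix_le [Finite V] (hV : ∀ v : V, v * v = 1) {B : Subgroup (MulAut V)} {r : MulAut V}
    (hB : ∀ b ∈ B, b * b = 1) (hrB : ∀ b ∈ B, r * b = b * r) (hodd : Odd (orderOf r))
    (h : fixSet (B : Set (MulAut V)) ≤ fixSet {r}) : r = 1 := by
  classical
  have hBc : ∀ a ∈ B, ∀ b ∈ B, a * b = b * a := fun a ha b hb => by
    have h1 := inv_eq_of_mul_eq_one_right (hB _ (mul_mem ha hb))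
    rw [mul_inv_rev, inv_eq_of_mul_eq_one_right (hB a ha), inv_eq_of_mul_eq_one_right (hB b hb)] at h1
    exact h1.symm
  ext v
  show r v = v
  by_contra hv
  have hstep : ∀ s : Finset (MulAut V), (∀ b ∈ s, b ∈ B) →
      ∃ u : V, r u * u ≠ 1 ∧ ∀ b ∈ s, b (r u * u) = r u * u := by
    intro s
    induction s using Finset.induction_on with
    | empty =>
      exact fun _ => ⟨v, fun e => hv (by rwa [mul_eq_one_iff_eq_inv, inv_eq_self hV] at e), by simp⟩
    | @insert b s _ ih =>
      intro hs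
      obtain ⟨u, hu1, hu2⟩ := ih fun x hx => hs x (Finset.mem_insert_of_mem hx)
      have hbB : b ∈ B := hs b (Finset.mem_insert_self b s)
      by_cases hb : b (r u * u) = r u * u
      · refine ⟨u, hu1, fun x hx => ?_⟩
        rcases Finset.mem_insert.1 hx with rfl | hx
        exacts [hb, hu2 x hx]
      · have hbr : r (b u) = b (r u) := DFunLike.congr_fun (hrB b hbB) u
        have e : r (u * b u) * (u * b u) = (r u * u) * b (r u * u) := by
          rw [map_mul, map_mul, hbr, mul_assoc, mul_assoc, ← mul_assoc (b (r u)) u,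
            comm_of_exp hV (b (r u)) u, mul_assoc]
        refine ⟨u * b u, fun e' => hb ?_, fun x hx => ?_⟩
        · rw [e, mul_eq_one_iff_eq_inv, inv_eq_self hV] at e'
          exact e'.symm
        · rw [e, map_mul]
          have e2 : b (b (r u * u)) = r u * u := DFunLike.congr_fun (hB b hbB) _
          rcases Finset.mem_insert.1 hx with rfl | hx
          · rw [e2, comm_of_exp hV]
          · have e3 : x (b (r u * u)) = b (x (r u * u)) :=
              DFunLike.congr_fun (hBc x (hs x (Finset.mem_insert_of_mem hx)) b hbB) _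
            rw [e3, hu2 x hx]
  obtain ⟨u, hu1, hu2⟩ := hstep (Set.toFinite (B : Set (MulAut V))).toFinset fun b hb => by simpa using hb
  exact hu1 (eq_one_of_dev_fixed hV hodd (h (fun b hb => hu2 b (by simpa using hb)) r rfl))

/-- The data found in an elementary abelian 2-group faithful on an odd group. -/
theorem exists_inverted [Finite V] {A F : Subgroup (MulAut V)} (hA : ∀ a ∈ A, a * a = 1)
    (hAF : A ≤ normalizer (F : Set (MulAut V))) (hF : Odd (Nat.card F))
    (hfaith : ∀ a ∈ A, (∀ f ∈ F, a * f = f * a) → a = 1) (hne : A ≠ ⊥) :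
    ∃ B ≤ A, ∃ z ∈ A, z ∉ B ∧ B ⊔ zpowers z = A ∧ Nat.card A ≤ 2 * Nat.card B ∧
      ∃ c ∈ F, c⁻¹ * z * c * z ∈ F ∧ c⁻¹ * z * c * z ≠ 1 ∧
        z * (c⁻¹ * z * c * z) * z = (c⁻¹ * z * c * z)⁻¹ ∧ Odd (orderOf (c⁻¹ * z * c * z)) ∧
        ∀ b ∈ B, (c⁻¹ * z * c * z) * b = b * (c⁻¹ * z * c * z) := by
  have hinv : ∀ a ∈ A, a⁻¹ = a := fun a ha => inv_eq_of_mul_eq_one_right (hA a ha)
  haveI : IsMulCommutative A := ⟨⟨fun a b => Subtype.ext (by
    have h1 := hinv _ (mul_mem a.2 b.2)
    rw [mul_inv_rev, hinv a a.2, hinv b b.2] at h1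
    exact h1.symm)⟩⟩
  have hcop : (Nat.card A).Coprime (Nat.card F) := by
    haveI : Fact (Nat.Prime 2) := ⟨Nat.prime_two⟩
    obtain ⟨n, hn⟩ := IsPGroup.iff_card.1
      (fun a : A => ⟨1, Subtype.ext (by rw [pow_one, pow_two]; exact hA a a.2)⟩ : IsPGroup 2 A)
    rw [hn]
    exact (Nat.coprime_two_left.2 hF).pow_left n
  by_contra hcon
  have hle : F ≤ centralizer (A : Set (MulAut V)) := by
    refine Coprime.le_of_forall_cyclic_quotient hAF hcop fun B hBA hz => ?_
    obtain ⟨z, hzA, hBz⟩ := hz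
    intro c hc
    rw [← hBz, mem_centralizer_iff]
    obtain ⟨hcF, hcB⟩ := hc
    have hzz : z * z = 1 := hA z hzA
    set r := c⁻¹ * z * c * z with hr
    have hrF : r ∈ F := by
      have h1 : z * c * z⁻¹ ∈ F := (mem_normalizer_iff.1 (hAF hzA) c).1 hcF
      rw [hinv z hzA] at h1
      rw [hr, show c⁻¹ * z * c * z = c⁻¹ * (z * c * z) by group]
      exact mul_mem (inv_mem hcF) h1
    have hr1 : r = 1 := by
      by_contra hr1
      have hzB : z ∉ B := fun h => hr1 (by
        rw [hr, mul_assoc c⁻¹ z c, mem_centralizer_iff.1 hcB z h, ← mul_assoc c⁻¹ c z, inv_mul_cancel,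
          one_mul, hzz])
      refine hcon ⟨B, hBA, z, hzA, hzB, hBz, ?_, c, hcF, hrF, hr1, ?_, ?_, ?_⟩
      · have hd : Nat.card A ≤ Nat.card B * Nat.card (zpowers z) := by
          rw [← hBz]
          have := Cfsg.Agent.Coprime.card_sup_of_le_normalizer (H := zpowers z) (N := B)
            (fun x hx => by
              have hxA : x ∈ A := zpowers_le.2 hzA hx
              refine centralizer_le_normalizer _ (mem_centralizer_iff.2 fun b hb => ?_)
              exact congrArg Subtype.val (mul_comm' (⟨b, hBA hb⟩ : A) ⟨x, hxA⟩))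
            (by
              rw [Subgroup.eq_bot_iff_forall]
              rintro x ⟨hx, hxB⟩
              obtain ⟨k, rfl⟩ := hx
              simp only at hxB ⊢
              rcases Int.even_or_odd k with ⟨j, rfl⟩ | ⟨j, rfl⟩
              · rw [← two_mul, zpow_mul, zpow_two, hzz, one_zpow]
              · exfalso
                rw [zpow_add_one, zpow_mul, zpow_two, hzz, one_zpow, one_mul] at hxB
                exact hzB hxB)
          rw [sup_comm, mul_comm (Nat.card (zpowers z))] at this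
          exact this.le
        have h2 : Nat.card (zpowers z) ≤ 2 := by
          rw [Nat.card_zpowers]
          exact Nat.le_of_dvd two_pos (orderOf_dvd_of_pow_eq_one (by rw [pow_two]; exact hzz))
        nlinarith
      · rw [mul_inv_rev, mul_inv_rev, mul_inv_rev, inv_inv, hinv z hzA]
        calc z * (c⁻¹ * z * c * z) * z = z * c⁻¹ * z * c * (z * z) := by group
          _ = z * c⁻¹ * z * c := by rw [hzz, mul_one]
          _ = z * (c⁻¹ * (z * c)) := by group
      · refine hF.of_dvd_nat ?_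
        exact Subgroup.orderOf_dvd_natCard F hrF
      · intro b hb
        have h1 : b * c = c * b := mem_centralizer_iff.1 hcB b hb
        have h2 : b * z = z * b := congrArg Subtype.val (mul_comm' (⟨b, hBA hb⟩ : A) ⟨z, hzA⟩)
        have h3 : Commute b r := by
          rw [hr]
          exact ((((show Commute b c from h1).inv_right).mul_right (show Commute b z from h2)).mul_right
            h1).mul_right h2
        exact h3.eq.symm
    intro x hx
    refine (mem_centralizer_iff.1 (?_ : c ∈ centralizer ((B ⊔ zpowers z : Subgroup (MulAut V)) : Set (MulAut V))) x hx)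
    refine le_centralizer_iff.1 (sup_le (fun b hb => mem_centralizer_iff.2 fun y hy => ?_)
      (zpowers_le.2 (mem_centralizer_iff.2 fun y hy => ?_))) (mem_zpowers c)
    · obtain ⟨k, rfl⟩ := hy
      exact ((show Commute b c from mem_centralizer_iff.1 hcB b hb).zpow_right k).eq.symm
    · obtain ⟨k, rfl⟩ := hy
      have h4 : c * z = z * c := by
        have h5 : c * r = c := by rw [hr1, mul_one]
        rw [hr] at h5
        calc c * z = c * (c⁻¹ * z * c * z) * z := by rw [h5]
          _ = z * c * (z * z) := by group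
          _ = z * c := by rw [hzz, mul_one]
      exact ((show Commute c z from h4).zpow_left k).eq
  exact hne ((Subgroup.eq_bot_iff_forall _).2 fun a ha =>
    hfaith a ha fun f hf => (mem_centralizer_iff.1 (hle hf) a ha))

theorem fixSet_invariant_of_commute {B : Set (MulAut V)} {x : MulAut V} (h : ∀ b ∈ B, x * b = b * x) :
    ∀ u ∈ fixSet B, x u ∈ fixSet B := by
  intro u hu b hb
  have := DFunLike.congr_fun (h b hb) u
  rw [MulAut.mul_apply, MulAut.mul_apply, hu b hb] at this
  exact this.symm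

theorem fixSet_sup {B : Subgroup (MulAut V)} {z : MulAut V} :
    fixSet ((B ⊔ zpowers z : Subgroup (MulAut V)) : Set (MulAut V)) = fixSet (B : Set (MulAut V)) ⊓ fixSet {z} := by
  refine le_antisymm (le_inf (fixSet_anti fun b hb => mem_sup_left hb)
    (fixSet_anti fun x hx => by rw [Set.mem_singleton_iff.1 hx]; exact mem_sup_right (mem_zpowers z))) ?_
  rintro v ⟨h1, h2⟩ a ha
  have hle : B ⊔ zpowers z ≤ MulAction.stabilizer (MulAut V) v :=
    sup_le (fun x hx => h1 x hx) (zpowers_le.2 (h2 z rfl))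
  exact hle ha

theorem four_le_relIndex [Finite V] (hV : ∀ v : V, v * v = 1) {F U : Subgroup V}
    (h : ¬ F.relIndex U ≤ 2) : 4 ≤ F.relIndex U := by
  haveI : Fact (Nat.Prime 2) := ⟨Nat.prime_two⟩
  obtain ⟨k, hk⟩ := IsPGroup.iff_card.1 ((isPGroup_of_exp hV).to_subgroup U)
  have hd : F.relIndex U ∣ 2 ^ k := hk ▸ Subgroup.index_dvd_card _
  obtain ⟨i, -, hi⟩ := (Nat.dvd_prime_pow Nat.prime_two).1 hd
  rw [hi] at h ⊢
  rcases i with _ | _ | i <;> simp [pow_succ] at h ⊢
  have := Nat.one_le_two_pow (n := i)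
  omega

theorem index_fixSet_eq {B : Subgroup (MulAut V)} {z : MulAut V} :
    (fixSet ((B ⊔ zpowers z : Subgroup (MulAut V)) : Set (MulAut V))).index =
      (fixSet {z}).relIndex (fixSet (B : Set (MulAut V))) * (fixSet (B : Set (MulAut V))).index := by
  rw [fixSet_sup, ← relIndex_mul_index (inf_le_left : fixSet (B : Set (MulAut V)) ⊓ fixSet {z} ≤ _),
    inf_relIndex_left]

/-- `|A|² ≤ |V : C_V(A)|`. -/
theorem sq_bound [Finite V] (hV : ∀ v : V, v * v = 1) {X : Subgroup (MulAut V)} (hX : NoNat X)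
    {F : Subgroup (MulAut V)} (hFX : F ≤ X) (hF : Odd (Nat.card F)) :
    ∀ A : Subgroup (MulAut V), A ≤ X → (∀ a ∈ A, a * a = 1) → A ≤ normalizer (F : Set (MulAut V)) →
      (∀ a ∈ A, (∀ f ∈ F, a * f = f * a) → a = 1) →
      Nat.card A ^ 2 ≤ (fixSet (A : Set (MulAut V))).index := by
  intro A
  induction A using WellFoundedLT.induction with
  | _ A ih =>
  intro hAX hA hAF hfaith
  by_cases hne : A = ⊥
  · rw [hne, Subgroup.card_bot, one_pow]
    exact Nat.one_le_iff_ne_zero.2 Subgroup.index_ne_zero_of_finite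
  obtain ⟨B, hBA, z, hzA, hzB, hBz, hcard, c, hcF, hrF, hr1, hinv, hodd, hrB⟩ :=
    exists_inverted hA hAF hF hfaith hne
  set r := c⁻¹ * z * c * z
  have hlt : B < A := hBA.lt_of_ne fun e => hzB (e ▸ hzA)
  have h1 := ih B hlt (hBA.trans hAX) (fun b hb => hA b (hBA hb)) (hBA.trans hAF)
    (fun b hb => hfaith b (hBA hb))
  have hzB' : ∀ b ∈ B, z * b = b * z := fun b hb => by
    have h := inv_eq_of_mul_eq_one_right (hA _ (mul_mem hzA (hBA hb)))
    rw [mul_inv_rev, inv_eq_of_mul_eq_one_right (hA z hzA),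
      inv_eq_of_mul_eq_one_right (hA b (hBA hb))] at h
    exact h.symm
  have h4 : 4 ≤ (fixSet {z}).relIndex (fixSet (B : Set (MulAut V))) := by
    refine four_le_relIndex hV fun hle => hr1 (eq_one_of_fix_le hV (fun b hb => hA b (hBA hb)) hrB hodd ?_)
    intro u hu a ha
    rw [Set.mem_singleton_iff.1 ha]
    exact transvection_trivial hV hX (hAX hzA) (hFX hrF) (hA z hzA) hinv hodd
      (fixSet_invariant_of_commute hzB') (fixSet_invariant_of_commute hrB) hle u hu
  rw [← hBz, index_fixSet_eq, hBz]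
  calc Nat.card A ^ 2 ≤ (2 * Nat.card B) ^ 2 := Nat.pow_le_pow_left hcard 2
    _ = 4 * Nat.card B ^ 2 := by ring
    _ ≤ _ := Nat.mul_le_mul h4 h1

/-- The case of equality in `sq_bound`. -/
theorem sq_bound_eq [Finite V] (hV : ∀ v : V, v * v = 1) {X : Subgroup (MulAut V)} (hX : NoNat X)
    {F : Subgroup (MulAut V)} (hFX : F ≤ X) (hF : Odd (Nat.card F))
    {A : Subgroup (MulAut V)} (hAX : A ≤ X) (hA : ∀ a ∈ A, a * a = 1)
    (hAF : A ≤ normalizer (F : Set (MulAut V)))
    (hfaith : ∀ a ∈ A, (∀ f ∈ F, a * f = f * a) → a = 1) (hne : A ≠ ⊥)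
    (heq : (fixSet (A : Set (MulAut V))).index ≤ Nat.card A ^ 2) :
    ∃ z ∈ A, ∃ c ∈ F, ∃ Y₀ : Subgroup V,
      z * (c⁻¹ * z * c * z) * z = (c⁻¹ * z * c * z)⁻¹ ∧ Odd (orderOf (c⁻¹ * z * c * z)) ∧
      Y₀ ≤ fixSet (A : Set (MulAut V)) ∧ (∀ y ∈ Y₀, (c⁻¹ * z * c * z) y = y) ∧
      Y₀.index ≤ 4 * Nat.card A ^ 2 ∧
      ∃ v ∈ fixSet (A : Set (MulAut V)), (c⁻¹ * z * c * z) v ∉ fixSet (A : Set (MulAut V)) := by
  obtain ⟨B, hBA, z, hzA, hzB, hBz, hcard, c, hcF, hrF, hr1, hinv, hodd, hrB⟩ :=
    exists_inverted hA hAF hF hfaith hne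
  set r := c⁻¹ * z * c * z
  have hzB' : ∀ b ∈ B, z * b = b * z := fun b hb => by
    have h := inv_eq_of_mul_eq_one_right (hA _ (mul_mem hzA (hBA hb)))
    rw [mul_inv_rev, inv_eq_of_mul_eq_one_right (hA z hzA),
      inv_eq_of_mul_eq_one_right (hA b (hBA hb))] at h
    exact h.symm
  have hzz := hA z hzA
  set U := fixSet (B : Set (MulAut V)) with hU
  set FA := fixSet (A : Set (MulAut V)) with hFA
  have hFAeq : FA = U ⊓ fixSet {z} := by rw [hFA, ← hBz, fixSet_sup]
  have hFU : FA ≤ U := fixSet_anti fun b hb => hBA hb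
  have hrU : ∀ u ∈ U, r u ∈ U := fixSet_invariant_of_commute hrB
  have hrel : FA.relIndex U ≤ 4 := by
    have h1 := sq_bound hV hX hFX hF B (hBA.trans hAX) (fun b hb => hA b (hBA hb)) (hBA.trans hAF)
      (fun b hb => hfaith b (hBA hb))
    have h2 : FA.index = FA.relIndex U * U.index := (relIndex_mul_index hFU).symm
    have h3 : Nat.card A ^ 2 ≤ (2 * Nat.card B) ^ 2 := Nat.pow_le_pow_left hcard 2
    by_contra h
    have h5 : FA.relIndex U * Nat.card B ^ 2 ≤ FA.relIndex U * U.index := Nat.mul_le_mul_left _ h1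
    have h6 : 0 < Nat.card B ^ 2 := pow_pos Nat.card_pos 2
    nlinarith
  set R := FA.map r.toMonoidHom
  have hRrel : R.relIndex U ≤ 4 := by
    rw [← map_eq_self_of_invariant hrU, relIndex_map_map_of_injective _ _ r.injective]
    exact hrel
  refine ⟨z, hzA, c, hcF, FA ⊓ R, hinv, hodd, inf_le_left, ?_, ?_, ?_⟩
  · rintro y ⟨hy1, y', hy', rfl⟩
    have e1 : z y' = y' := hy' z hzA
    have e2 : z (r y') = r y' := hy1 z hzA
    have e3 : (z * r * z) y' = r⁻¹ y' := DFunLike.congr_fun hinv y'
    rw [MulAut.mul_apply, MulAut.mul_apply, e1, e2] at e3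
    have : r (r y') = y' := by rw [e3, MulAut.apply_inv_self]
    show r (r y') = r y'
    rw [this]
    exact (eq_of_sq_eq hodd this).symm
  · rw [← relIndex_mul_index (inf_le_left : FA ⊓ R ≤ FA), inf_relIndex_left]
    refine Nat.mul_le_mul ((Nat.le_of_eq rfl).trans ?_) heq
    exact (relIndex_le_of_le_right hFU Subgroup.index_ne_zero_of_finite).trans hRrel
  · by_contra hcon
    push Not at hcon
    have hfixr : ∀ y ∈ FA, r y = y := by
      intro y hy
      have e1 : z y = y := hy z hzA
      have e2 : z (r y) = r y := hcon y hy z hzA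
      have e3 : (z * r * z) y = r⁻¹ y := DFunLike.congr_fun hinv y
      rw [MulAut.mul_apply, MulAut.mul_apply, e1, e2] at e3
      exact eq_of_sq_eq hodd (by rw [e3, MulAut.apply_inv_self])
    refine hr1 (eq_one_of_fix_le hV (fun b hb => hA b (hBA hb)) hrB hodd ?_)
    intro u hu a ha
    rw [Set.mem_singleton_iff.1 ha]
    by_contra hne'
    have hw1 : r u * u ≠ 1 := fun e => hne' (by rwa [mul_eq_one_iff_eq_inv, inv_eq_self hV] at e)
    have hw : r u * u ∈ U := mul_mem (hrU u hu) hu
    -- a fixed point of `z` in the commutator with `r`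
    have hzu : r⁻¹ (z u) ∈ U := by
      obtain ⟨y, hy, hy'⟩ := (map_eq_self_of_invariant hrU).ge
        (fixSet_invariant_of_commute hzB' u hu)
      rw [← hy']
      simpa using hy
    have e : z (r u) = r⁻¹ (z u) := by
      have := DFunLike.congr_fun hinv (z u)
      rw [MulAut.mul_apply, MulAut.mul_apply, show z (z u) = u from DFunLike.congr_fun hzz u] at this
      exact this
    set u' := r⁻¹ (z u) with hu'
    have e' : z (r u * u) = r u' * u' := by
      rw [map_mul, e, hu', MulAut.apply_inv_self, comm_of_exp hV]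
    have hone : ∀ y ∈ U, z (r y * y) = r y * y → r y * y = 1 := fun y hy hfix =>
      eq_one_of_dev_fixed hV hodd (hfixr _ (hFAeq.ge ⟨mul_mem (hrU y hy) hy, fun b hb => by
        rw [Set.mem_singleton_iff.1 hb]; exact hfix⟩))
    have hsum : r (u * u') * (u * u') = (r u * u) * z (r u * u) := by
      rw [e', map_mul, mul_assoc, mul_assoc, ← mul_assoc (r u') u, comm_of_exp hV (r u') u, mul_assoc]
    have h0 := hone (u * u') (mul_mem hu hzu) (by
      rw [hsum, map_mul, show z (z (r u * u)) = r u * u from DFunLike.congr_fun hzz _, comm_of_exp hV])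
    rw [hsum, mul_eq_one_iff_eq_inv, inv_eq_self hV] at h0
    exact hw1 (hone u hu h0.symm)

/-- An elementary abelian 2-group faithful on an odd group has a regular orbit. -/
theorem exists_regular {G : Type u} [Group G] [Finite G] {F : Subgroup G} (hF : Odd (Nat.card F)) :
    ∀ A : Subgroup G, (∀ a ∈ A, a * a = 1) → A ≤ normalizer (F : Set G) →
      (∀ a ∈ A, (∀ f ∈ F, a * f = f * a) → a = 1) → ∃ c ∈ F, ∀ a ∈ A, a * c = c * a → a = 1 := by
  intro A
  induction A using WellFoundedLT.induction with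
  | _ A ih =>
  intro hA hAF hfaith
  haveI : IsMulCommutative A := ⟨⟨fun a b => Subtype.ext (by
    have h1 := inv_eq_of_mul_eq_one_right (hA _ (mul_mem a.2 b.2))
    rw [mul_inv_rev, inv_eq_of_mul_eq_one_right (hA a a.2), inv_eq_of_mul_eq_one_right (hA b b.2)] at h1
    exact h1.symm)⟩⟩
  have hcop : (Nat.card A).Coprime (Nat.card F) := by
    haveI : Fact (Nat.Prime 2) := ⟨Nat.prime_two⟩
    obtain ⟨n, hn⟩ := IsPGroup.iff_card.1
      (fun a : A => ⟨1, Subtype.ext (by rw [pow_one, pow_two]; exact hA a a.2)⟩ : IsPGroup 2 A)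
    rw [hn]
    exact (Nat.coprime_two_left.2 hF).pow_left n
  by_contra hcon
  push Not at hcon
  have hle : F ≤ centralizer (A : Set G) := by
    refine Coprime.le_of_forall_cyclic_quotient hAF hcop fun B hBA hz => ?_
    obtain ⟨z, hzA, hBz⟩ := hz
    rintro r ⟨hrF, hrB⟩
    rw [← hBz]
    have hBn : ∀ {x : G}, (∀ b ∈ B, b * x = x * b) → z * x = x * z →
        x ∈ centralizer ((B ⊔ zpowers z : Subgroup G) : Set G) := by
      intro x h1 h2
      refine le_centralizer_iff.1 (sup_le (fun b hb => mem_centralizer_iff.2 fun y hy => ?_)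
        (zpowers_le.2 (mem_centralizer_iff.2 fun y hy => ?_))) (mem_zpowers x)
      · obtain ⟨k, rfl⟩ := hy
        exact ((show Commute b x from h1 b hb).zpow_right k).eq.symm
      · obtain ⟨k, rfl⟩ := hy
        exact ((show Commute x z from h2.symm).zpow_left k).eq
    refine hBn (fun b hb => mem_centralizer_iff.1 hrB b hb) ?_
    by_contra hzr
    have hlt : B < A := hBA.lt_of_ne fun e => hzr (mem_centralizer_iff.1 hrB z (e ▸ hzA))
    obtain ⟨c₀, hc₀F, hc₀⟩ := ih B hlt (fun b hb => hA b (hBA hb)) (hBA.trans hAF)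
      (fun b hb => hfaith b (hBA hb))
    obtain ⟨a, haA, hac, hane⟩ := hcon c₀ hc₀F
    have haB : a ∉ B := fun h => hane (hc₀ a h hac)
    have har : a * r ≠ r * a := by
      intro h
      have hr' : r ∈ centralizer ((B ⊔ zpowers a : Subgroup G) : Set G) := by
        refine le_centralizer_iff.1 (sup_le (fun b hb => mem_centralizer_iff.2 fun y hy => ?_)
          (zpowers_le.2 (mem_centralizer_iff.2 fun y hy => ?_))) (mem_zpowers r)
        · obtain ⟨k, rfl⟩ := hy
          exact ((show Commute b r from mem_centralizer_iff.1 hrB b hb).zpow_right k).eq.symm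
        · obtain ⟨k, rfl⟩ := hy
          exact ((show Commute r a from h.symm).zpow_left k).eq
      refine hzr (mem_centralizer_iff.1 hr' z ?_)
      -- `A = B⟨a⟩`
      rw [← hBz] at haA
      have hzn : zpowers z ≤ normalizer (B : Set G) := (zpowers_le.2 hzA).trans fun x hx =>
        centralizer_le_normalizer _ (mem_centralizer_iff.2 fun b hb =>
          congrArg Subtype.val (mul_comm' (⟨b, hBA hb⟩ : A) ⟨x, hx⟩))
      obtain ⟨b, hb, x, hx, rfl⟩ := (Coprime.mem_sup_iff_of_le_normalizer hzn).1 (sup_comm B _ ▸ haA)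
      obtain ⟨k, rfl⟩ := hb
      rcases Int.even_or_odd k with hk | hk
      · exfalso
        apply haB
        have : z ^ k = 1 := by
          obtain ⟨j, rfl⟩ := hk
          rw [← two_mul, zpow_mul, zpow_two, hA z hzA, one_zpow]
        simp only [this, one_mul]
        exact hx
      · have hzk : z ^ k = z := by
          obtain ⟨j, rfl⟩ := hk
          rw [zpow_add_one, zpow_mul, zpow_two, hA z hzA, one_zpow, one_mul]
        have hm : z ^ k * x * x⁻¹ ∈ B ⊔ zpowers (z ^ k * x) :=
          mul_mem (mem_sup_right (mem_zpowers _)) (mem_sup_left (inv_mem hx))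
        rw [mul_inv_cancel_right] at hm
        simp only [hzk] at hm ⊢
        exact hm
    set s := r⁻¹ * a * r * a with hs
    have haa := hA a haA
    have hai : a⁻¹ = a := inv_eq_of_mul_eq_one_right haa
    have hsF : s ∈ F := by
      have h1 : a * r * a⁻¹ ∈ F := (mem_normalizer_iff.1 (hAF haA) r).1 hrF
      rw [hai] at h1
      rw [hs, show r⁻¹ * a * r * a = r⁻¹ * (a * r * a) by group]
      exact mul_mem (inv_mem hrF) h1
    have hs1 : s ≠ 1 := by
      intro e
      apply har
      calc a * r = r * (r⁻¹ * a * r * a) * a⁻¹ := by group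
        _ = r * a := by rw [← hs, e, mul_one, hai]
    have hsinv : a * s * a⁻¹ = s⁻¹ := by
      rw [hs, mul_inv_rev, mul_inv_rev, mul_inv_rev, inv_inv, hai]
      calc a * (r⁻¹ * a * r * a) * a = a * r⁻¹ * a * r * (a * a) := by group
        _ = a * r⁻¹ * a * r := by rw [haa, mul_one]
        _ = a * (r⁻¹ * (a * r)) := by group
    obtain ⟨a', ha'A, ha'c, ha'ne⟩ := hcon (c₀ * s) (mul_mem hc₀F hsF)
    have comm : ∀ {x y : G}, x ∈ A → y ∈ A → Commute x y := fun hx hy =>
      congrArg Subtype.val (mul_comm' (⟨_, hx⟩ : A) ⟨_, hy⟩)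
    have hbs : ∀ b ∈ B, Commute b s := fun b hb => by
      have h1 : Commute b r := mem_centralizer_iff.1 hrB b hb
      have h2 : Commute b a := comm (hBA hb) haA
      rw [hs]
      exact ((h1.inv_right.mul_right h2).mul_right h1).mul_right h2
    have hmem : a' ∈ B ∨ a' * a ∈ B := by
      have key : ∀ x ∈ A, x ∈ B ∨ x * z ∈ B := by
        intro x hx
        rw [← hBz] at hx
        have hzn : zpowers z ≤ normalizer (B : Set G) := (zpowers_le.2 hzA).trans fun x hx =>
          centralizer_le_normalizer _ (mem_centralizer_iff.2 fun b hb => comm (hBA hb) hx)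
        obtain ⟨b, hb, y, hy, rfl⟩ := (Coprime.mem_sup_iff_of_le_normalizer hzn).1 (sup_comm B _ ▸ hx)
        obtain ⟨k, rfl⟩ := hb
        simp only
        rcases Int.even_or_odd k with ⟨j, rfl⟩ | ⟨j, rfl⟩
        · left
          rw [← two_mul, zpow_mul, zpow_two, hA z hzA, one_zpow, one_mul]
          exact hy
        · right
          rw [zpow_add_one, zpow_mul, zpow_two, hA z hzA, one_zpow, one_mul,
            (comm hzA (hBA hy)).eq, mul_assoc, hA z hzA, mul_one]
          exact hy
      rcases key a' ha'A with h | h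
      · exact Or.inl h
      · rcases key a haA with h' | h'
        · exact absurd h' haB
        · right
          have h'' := mul_mem h h'
          rwa [(comm haA hzA).eq, mul_assoc a' z (z * a), ← mul_assoc z z a, hA z hzA, one_mul] at h''
    rcases hmem with h | h
    · refine ha'ne (hc₀ a' h ?_)
      have h1 : a' * (c₀ * s) = c₀ * a' * s := by rw [ha'c, mul_assoc, ← (hbs a' h).eq, mul_assoc]
      rw [← mul_assoc] at h1
      exact mul_right_cancel h1
    · set b := a' * a with hb
      have ha'eq : a' = b * a := by rw [hb, mul_assoc, haa, mul_one]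
      have hbb := hA b (hBA h)
      have hbi : b⁻¹ = b := inv_eq_of_mul_eq_one_right hbb
      -- conjugating by `b` gives `b c₀ b = c₀ s²`, so `s⁴ = 1`
      have h1 : b * c₀ * b⁻¹ = c₀ * (s * s) := by
        have e1 : a' * (c₀ * s) * a'⁻¹ = c₀ * s := by rw [ha'c, mul_inv_cancel_right]
        have e2 : a' * (c₀ * s) * a'⁻¹ = (b * c₀ * b⁻¹) * (b * s⁻¹ * b⁻¹) := by
          rw [ha'eq]
          calc b * a * (c₀ * s) * (b * a)⁻¹ = b * ((a * c₀) * (s * a⁻¹)) * b⁻¹ := by group
            _ = b * ((c₀ * a) * (s * a⁻¹)) * b⁻¹ := by rw [hac]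
            _ = b * c₀ * (a * s * a⁻¹) * b⁻¹ := by group
            _ = (b * c₀ * b⁻¹) * (b * s⁻¹ * b⁻¹) := by rw [hsinv]; group
        have e3 : b * s⁻¹ * b⁻¹ = s⁻¹ := by
          rw [(hbs b h).inv_right.eq, mul_inv_cancel_right]
        rw [e3, e1] at e2
        calc b * c₀ * b⁻¹ = b * c₀ * b⁻¹ * s⁻¹ * s := by group
          _ = c₀ * (s * s) := by rw [← e2, mul_assoc]
      have h2 : c₀ = c₀ * (s * s) * (s * s) := by
        have e4 : b * (b * c₀ * b⁻¹) * b⁻¹ = c₀ := by
          calc b * (b * c₀ * b⁻¹) * b⁻¹ = (b * b) * c₀ * (b * b)⁻¹ := by group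
            _ = c₀ := by rw [hbb, one_mul, inv_one, mul_one]
        have e5 : b * (c₀ * (s * s)) * b⁻¹ = b * c₀ * b⁻¹ * (s * s) := by
          have : Commute b (s * s) := (hbs b h).mul_right (hbs b h)
          rw [← mul_assoc, mul_assoc (b * c₀) (s * s) b⁻¹, ← this.inv_left.eq, ← mul_assoc]
        rw [h1, e5, h1] at e4
        exact e4.symm
      have h3 : s ^ 4 = 1 := by
        rw [mul_assoc] at h2
        have := mul_left_cancel (h2.symm.trans (mul_one c₀).symm)
        rw [show (4 : ℕ) = 2 + 2 from rfl, pow_add, pow_two]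
        exact this
      refine hs1 ?_
      rw [← orderOf_eq_one_iff]
      exact Nat.eq_one_of_dvd_coprimes ((Nat.coprime_two_left.2 hF).pow_left 2)
        (by simpa using orderOf_dvd_of_pow_eq_one h3) (Subgroup.orderOf_dvd_natCard F hsF)
  by_cases hbot : A = ⊥
  · obtain ⟨a, ha, -, hane⟩ := hcon 1 (one_mem F)
    exact hane (by rwa [hbot, Subgroup.mem_bot] at ha)
  · exact hbot ((Subgroup.eq_bot_iff_forall _).2 fun a ha =>
      hfaith a ha fun f hf => mem_centralizer_iff.1 (hle hf) a ha)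

end Cfsg.Agent.TwoLocalFree
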