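import Cfsg.Agent.Lib.TwoLocalFree.Action
import Cfsg.Agent.Lib.PComplement.SFour
import Cfsg.Agent.Lib.PCore.Basic
import Cfsg.Agent.Lib.Components.Fitting
import Cfsg.Agent.Lib.Subnormal.Nilpotent
import Cfsg.Agent.Lib.Coprime.Stabilize
import Cfsg.Agent.Lib.Coprime.Basic

set_option autoImplicit false

/-! `S₄`-free solvable groups acting on elementary abelian 2-sections.

* `bound_normal`, `eq_normal`: the square bound on a normal subgroup of exponent two and its equality case;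
* `secC U V`, `fixSec U V A`: centraliser of a section `V/U` and fixed points on it;
* `section_bound`, `section_eq`: the same for sections inside an ambient group;
* `series_bound`: iterated along a chief series;
* `transvection_group`: no transvection inverts an odd element. -/

namespace Cfsg.Agent.TwoLocalFree

open Subgroup

universe u

variable {H : Type u} [Group H]

theorem NoNat.mono {V : Type u} [Group V] {X X' : Subgroup (MulAut V)} (h : NoNat X') (hle : X ≤ X') :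
    NoNat X := fun W z hz r hr => h W z (hle hz) r (hle hr)

theorem noNat_normalizer [Finite H] (hfree : ¬ Cfsg.Involves (Equiv.Perm (Fin 4)) H) (V : Subgroup H) :
    NoNat V.normalizerMonoidHom.range := by
  rintro W _ ⟨t, rfl⟩ _ ⟨c, rfl⟩ hW htW hcW hfix ⟨w₀, hw₀, hw₀1, hw₀t⟩ w hw
  by_contra hne
  have hmem : ∀ g : normalizer (V : Set H), (∀ w ∈ W, V.normalizerMonoidHom g w ∈ W) →
      (g : H) ∈ normalizer ((W.map V.subtype : Subgroup H) : Set H) := by
    intro g hg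
    refine Subgroup.mem_normalizer_fintype ?_
    rintro _ ⟨x, hx, rfl⟩
    exact ⟨_, hg x hx, rfl⟩
  refine hfree (PComplement.involves_sfour (W.map V.subtype) ?_ (hmem c hcW) (hmem t htW) ?_ ?_ ?_)
  · rw [Subgroup.card_map_of_injective V.subtype_injective]; exact hW
  · rintro _ ⟨x, hx, rfl⟩ hcx
    rw [hfix x hx (Subtype.ext (by
      show (c : H) * x * (c : H)⁻¹ = x
      rw [show (c : H) * x = x * c from hcx.eq]
      exact mul_inv_cancel_right _ _))]
    rfl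
  · refine ⟨w₀, mem_map_of_mem _ hw₀, fun e => hw₀1 (Subtype.ext e), ?_⟩
    exact mul_inv_eq_iff_eq_mul.1 (congrArg Subtype.val hw₀t)
  · intro hall
    refine hne (Subtype.ext ?_)
    show (t : H) * w * (t : H)⁻¹ = w
    rw [(hall _ (mem_map_of_mem V.subtype hw) : Commute (t : H) w).eq]
    exact mul_inv_cancel_right _ _

/-- Conjugation on a normal subgroup. -/
abbrev actHom (V : Subgroup H) [V.Normal] : H →* MulAut V := MulAut.conjNormal

theorem noNat_act [Finite H] (hfree : ¬ Cfsg.Involves (Equiv.Perm (Fin 4)) H) (V : Subgroup H) [V.Normal] :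
    NoNat (actHom V).range := by
  refine (noNat_normalizer hfree V).mono ?_
  rintro _ ⟨h, rfl⟩
  exact ⟨⟨h, by rw [normalizer_eq_top]; exact mem_top h⟩, MulEquiv.ext fun _ => Subtype.ext (by
    rw [MulAut.conjNormal_apply]; rfl)⟩

theorem actHom_eq_one {V : Subgroup H} [V.Normal] {h : H} :
    actHom V h = 1 ↔ h ∈ centralizer (V : Set H) := by
  constructor
  · intro e
    refine mem_centralizer_iff.2 fun v hv => ?_
    have := congrArg Subtype.val (DFunLike.congr_fun e (⟨v, hv⟩ : V))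
    rw [MulAut.conjNormal_apply] at this
    exact (mul_inv_eq_iff_eq_mul.1 this).symm
  · intro hh
    refine MulEquiv.ext fun v => Subtype.ext ?_
    rw [MulAut.conjNormal_apply, ← mem_centralizer_iff.1 hh _ v.2]
    exact mul_inv_cancel_right _ _

theorem actHom_apply_eq_self {V : Subgroup H} [V.Normal] {h : H} {v : V} :
    actHom V h v = v ↔ h * (v : H) = v * h := by
  rw [← Subtype.val_inj, MulAut.conjNormal_apply, mul_inv_eq_iff_eq_mul]

theorem card_map_act [Finite H] (V A : Subgroup H) [V.Normal] :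
    Nat.card (A.map (actHom V)) = (centralizer (V : Set H)).relIndex A := by
  have h1 : ((actHom V).comp A.subtype).ker = (centralizer (V : Set H)).subgroupOf A := by
    ext x
    rw [MonoidHom.mem_ker, mem_subgroupOf]
    exact actHom_eq_one
  rw [relIndex, ← h1, index_ker, MonoidHom.range_comp, range_subtype]

theorem fixSet_map_act (V A : Subgroup H) [V.Normal] :
    fixSet ((A.map (actHom V) : Subgroup (MulAut V)) : Set (MulAut V)) =
      (centralizer (A : Set H)).subgroupOf V := by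
  ext v
  rw [mem_fixSet, mem_subgroupOf, mem_centralizer_iff]
  constructor
  · exact fun h a ha => actHom_apply_eq_self.1 (h _ (mem_map_of_mem _ ha))
  · rintro h _ ⟨a, ha, rfl⟩
    exact actHom_apply_eq_self.2 (h a ha)

/-- The odd Fitting subgroup of the image of a solvable group with no 2-core. -/
theorem exists_fitting [Finite H] [Group.IsSolvable H] (V : Subgroup H) [V.Normal]
    (hO2 : ∀ L : Subgroup H, L.Normal → centralizer (V : Set H) ≤ L →
      (∀ x ∈ L, ∃ k : ℕ, x ^ 2 ^ k ∈ centralizer (V : Set H)) → L ≤ centralizer (V : Set H)) :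
    ∃ F ≤ (actHom V).range, Odd (Nat.card F) ∧ (actHom V).range ≤ normalizer (F : Set (MulAut V)) ∧
      ∀ a ∈ (actHom V).range, a * a = 1 → (∀ f ∈ F, a * f = f * a) → a = 1 := by
  haveI : Fact (Nat.Prime 2) := ⟨Nat.prime_two⟩
  set X := (actHom V).range
  set f := (actHom V).rangeRestrict
  haveI : Group.IsSolvable X := solvable_of_surjective (actHom V).rangeRestrict_surjective
  have hker : f.ker = centralizer (V : Set H) := by
    rw [MonoidHom.ker_rangeRestrict]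
    ext x; exact actHom_eq_one
  have hcore : pCore 2 X = ⊥ := by
    rw [eq_bot_iff]
    intro x hx
    obtain ⟨h, rfl⟩ := (actHom V).rangeRestrict_surjective x
    have hle := hO2 ((pCore 2 X).comap f) (Normal.comap PCore.pCore_normal _)
      (hker.ge.trans (MonoidHom.ker_le_comap _ _)) (fun y hy => by
        obtain ⟨k, hk⟩ := PCore.isPGroup_pCore (p := 2) ⟨f y, hy⟩
        refine ⟨k, hker.le ?_⟩
        rw [MonoidHom.mem_ker, map_pow]
        exact congrArg Subtype.val hk) hx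
    rw [← hker] at hle
    exact Subgroup.mem_bot.2 hle
  set F := fittingSubgroup X
  have hodd : ∀ a : X, a * a = 1 → a ∈ F → a = 1 := by
    intro a ha haF
    have := Subnormal.mem_pCore_of_mem_fittingSubgroup (p := 2) (k := 1) haF (by rw [pow_one, pow_two]; exact ha)
    rwa [hcore, Subgroup.mem_bot] at this
  refine ⟨F.map X.subtype, map_subtype_le _, ?_, ?_, ?_⟩
  · rw [Subgroup.card_map_of_injective X.subtype_injective, ← Nat.not_even_iff_odd]
    intro he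
    obtain ⟨a, ha⟩ := exists_prime_orderOf_dvd_card' (G := F) 2 he.two_dvd
    have h1 : (a : X) * a = 1 := by
      rw [← Subgroup.coe_mul, ← pow_two, ← ha, pow_orderOf_eq_one, OneMemClass.coe_one]
    have := hodd a h1 a.2
    rw [OneMemClass.coe_eq_one] at this
    rw [this, orderOf_one] at ha
    omega
  · haveI : F.Normal := Subgroup.sSup_normal _ fun _ h => h.1
    refine le_trans ?_ (F.le_normalizer_map X.subtype)
    rw [normalizer_eq_top, ← MonoidHom.range_eq_map, range_subtype]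
  · intro a haX ha hc
    have hmem : (⟨a, haX⟩ : X) ∈ F := Components.centralizer_fittingSubgroup_le
      (mem_centralizer_iff.2 fun f hf => Subtype.ext (hc f (mem_map_of_mem X.subtype hf)).symm)
    exact congrArg Subtype.val (hodd ⟨a, haX⟩ (Subtype.ext ha) hmem)

/-- `|A : C_A(V)|² ≤ |V : C_V(A)|`. -/
theorem bound_normal [Finite H] [Group.IsSolvable H] (hfree : ¬ Cfsg.Involves (Equiv.Perm (Fin 4)) H)
    (V : Subgroup H) [V.Normal] (hV : ∀ v ∈ V, v * v = 1)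
    (hO2 : ∀ L : Subgroup H, L.Normal → centralizer (V : Set H) ≤ L →
      (∀ x ∈ L, ∃ k : ℕ, x ^ 2 ^ k ∈ centralizer (V : Set H)) → L ≤ centralizer (V : Set H))
    (A : Subgroup H) (hA : ∀ a ∈ A, a * a ∈ centralizer (V : Set H)) :
    (centralizer (V : Set H)).relIndex A ^ 2 ≤ (centralizer (A : Set H)).relIndex V := by
  obtain ⟨F, hFX, hF, hXF, hfaith⟩ := exists_fitting V hO2
  have hAX : A.map (actHom V) ≤ (actHom V).range := by rintro _ ⟨a, -, rfl⟩; exact ⟨a, rfl⟩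
  have hA2 : ∀ x ∈ A.map (actHom V), x * x = 1 := by
    rintro _ ⟨a, ha, rfl⟩
    rw [← map_mul]
    exact actHom_eq_one.2 (hA a ha)
  have h := sq_bound (V := V) (fun v => Subtype.ext (hV v v.2)) (noNat_act hfree V) hFX hF
    (A.map (actHom V)) hAX hA2 (hAX.trans hXF) (fun x hx hc => hfaith x (hAX hx) (hA2 x hx) hc)
  rw [card_map_act, fixSet_map_act] at h
  exact h

/-- The equality case of `bound_normal`. -/
theorem eq_normal [Finite H] [Group.IsSolvable H] (hfree : ¬ Cfsg.Involves (Equiv.Perm (Fin 4)) H)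
    (V : Subgroup H) [V.Normal] (hV : ∀ v ∈ V, v * v = 1)
    (hO2 : ∀ L : Subgroup H, L.Normal → centralizer (V : Set H) ≤ L →
      (∀ x ∈ L, ∃ k : ℕ, x ^ 2 ^ k ∈ centralizer (V : Set H)) → L ≤ centralizer (V : Set H))
    (A : Subgroup H) (hA : ∀ a ∈ A, a * a ∈ centralizer (V : Set H))
    (hne : ¬ A ≤ centralizer (V : Set H))
    (heq : (centralizer (A : Set H)).relIndex V ≤ (centralizer (V : Set H)).relIndex A ^ 2) :
    ∃ a ∈ A, ∃ c : H, ∃ Y₀ : Subgroup H,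
      (∃ n : ℕ, Odd n ∧ (c⁻¹ * a * c * a) ^ n ∈ centralizer (V : Set H)) ∧
      Y₀ ≤ V ⊓ centralizer (A : Set H) ∧
      (∀ y ∈ Y₀, (c⁻¹ * a * c * a) * y = y * (c⁻¹ * a * c * a)) ∧
      Y₀.relIndex V ≤ 4 * (centralizer (V : Set H)).relIndex A ^ 2 ∧
      ∃ v ∈ V ⊓ centralizer (A : Set H),
        (c⁻¹ * a * c * a) * v * (c⁻¹ * a * c * a)⁻¹ ∉ centralizer (A : Set H) := by
  obtain ⟨F, hFX, hF, hXF, hfaith⟩ := exists_fitting V hO2
  have hAX : A.map (actHom V) ≤ (actHom V).range := by rintro _ ⟨a, -, rfl⟩; exact ⟨a, rfl⟩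
  have hA2 : ∀ x ∈ A.map (actHom V), x * x = 1 := by
    rintro _ ⟨a, ha, rfl⟩
    rw [← map_mul]
    exact actHom_eq_one.2 (hA a ha)
  have hne' : A.map (actHom V) ≠ ⊥ := fun e => hne fun a ha =>
    actHom_eq_one.1 (Subgroup.mem_bot.1 (e ▸ mem_map_of_mem _ ha))
  obtain ⟨_, ⟨a, ha, rfl⟩, z, hz, Y₀, -, hodd, hY1, hY2, hY3, v, hv1, hv2⟩ :=
    sq_bound_eq (V := V) (fun v => Subtype.ext (hV v v.2)) (noNat_act hfree V) hFX hF hAX hA2
      (hAX.trans hXF) (fun x hx hc => hfaith x (hAX hx) (hA2 x hx) hc) hne'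
      (by rw [card_map_act, fixSet_map_act]; exact heq)
  obtain ⟨c, rfl⟩ := hFX hz
  rw [← map_inv, ← map_mul, ← map_mul, ← map_mul] at hodd hY2 hv2
  rw [fixSet_map_act] at hY1 hv1 hv2
  set r := c⁻¹ * a * c * a
  refine ⟨a, ha, c, Y₀.map V.subtype, ⟨orderOf (actHom V r), hodd, actHom_eq_one.1 ?_⟩, ?_, ?_, ?_, v, ⟨v.2, hv1⟩, ?_⟩
  · rw [map_pow, pow_orderOf_eq_one]
  · rintro _ ⟨y, hy, rfl⟩
    exact ⟨y.2, hY1 hy⟩
  · rintro _ ⟨y, hy, rfl⟩
    exact actHom_apply_eq_self.1 (hY2 y hy)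
  · rw [relIndex, subgroupOf, Subgroup.comap_map_eq_self_of_injective V.subtype_injective,
      ← card_map_act]
    exact hY3
  · intro hcon
    apply hv2
    rw [mem_subgroupOf, MulAut.conjNormal_apply]
    exact hcon

/-- No involution induces a transvection while inverting a nontrivial odd element. -/
theorem transvection_group [Finite H] (hfree : ¬ Cfsg.Involves (Equiv.Perm (Fin 4)) H) {U : Subgroup H}
    (hU : ∀ u ∈ U, u * u = 1) {z r : H} (hz : z ∈ normalizer (U : Set H))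
    (hr : r ∈ normalizer (U : Set H)) (hzz : z * z ∈ centralizer (U : Set H))
    (hinv : z * r * z * r ∈ centralizer (U : Set H))
    {n : ℕ} (hn : Odd n) (hrn : r ^ n ∈ centralizer (U : Set H))
    (hidx : (centralizer ({z} : Set H)).relIndex U ≤ 2) : r ∈ centralizer (U : Set H) := by
  set φ := U.normalizerMonoidHom
  have hone : ∀ {x : normalizer (U : Set H)}, φ x = 1 ↔ (x : H) ∈ centralizer (U : Set H) := by
    intro x
    rw [← MonoidHom.mem_ker, Subgroup.normalizerMonoidHom_ker, mem_subgroupOf]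
  have hodd : Odd (orderOf (φ ⟨r, hr⟩)) := hn.of_dvd_nat (orderOf_dvd_of_pow_eq_one (by
    rw [← map_pow, hone]; exact hrn))
  have hfix : fixSet ({φ ⟨z, hz⟩} : Set (MulAut U)) = (centralizer ({z} : Set H)).subgroupOf U := by
    ext v
    simp only [mem_fixSet, Set.mem_singleton_iff, forall_eq, mem_subgroupOf, mem_centralizer_singleton_iff]
    rw [← Subtype.val_inj]
    show z * (v : H) * z⁻¹ = v ↔ _
    rw [mul_inv_eq_iff_eq_mul]
    exact eq_comm
  have h := transvection_trivial (V := U) (fun v => Subtype.ext (hU v v.2)) (noNat_normalizer hfree U)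
    (z := φ ⟨z, hz⟩) (r := φ ⟨r, hr⟩) ⟨_, rfl⟩ ⟨_, rfl⟩ (by rw [← map_mul, hone]; exact hzz)
    (eq_inv_of_mul_eq_one_left (by rw [← map_mul, ← map_mul, ← map_mul, hone]; exact hinv)) hodd
    (U := ⊤) (fun _ _ => mem_top _) (fun _ _ => mem_top _) (by rw [relIndex_top_right, hfix]; exact hidx)
  exact (hone (x := ⟨r, hr⟩)).1 (MulEquiv.ext fun v => h v (mem_top v))

/-- A 2-group fixes a nontrivial element of a nontrivial 2-group. -/
theorem exists_fixed_two [Finite H] {K N : Subgroup H} (hN : IsPGroup 2 N) (hne : N ≠ ⊥)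
    (hK : K ≤ normalizer (N : Set H)) (hpow : ∀ x ∈ K, ∃ k : ℕ, x ^ 2 ^ k ∈ centralizer (N : Set H)) :
    N ⊓ centralizer (K : Set H) ≠ ⊥ := by
  haveI : Fact (Nat.Prime 2) := ⟨Nat.prime_two⟩
  let B : Subgroup (MulAut N) := (N.normalizerMonoidHom.comp (inclusion hK)).range
  have hB : IsPGroup 2 B := by
    rintro ⟨_, ⟨⟨x, hx⟩, rfl⟩⟩
    obtain ⟨k, hk⟩ := hpow x hx
    refine ⟨k, Subtype.ext ?_⟩
    have : (inclusion hK ⟨x, hx⟩) ^ 2 ^ k ∈ N.normalizerMonoidHom.ker := by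
      rw [Subgroup.normalizerMonoidHom_ker]; exact hk
    rw [MonoidHom.mem_ker, map_pow] at this
    exact this
  have hdvd : 2 ∣ Nat.card N := by
    obtain ⟨n, hn⟩ := IsPGroup.iff_card.1 hN
    rcases n with _ | n
    · exact absurd (Subgroup.card_eq_one.1 (by simpa using hn)) hne
    · exact ⟨2 ^ n, by rw [hn]; ring⟩
  obtain ⟨b, hb, hne1⟩ := hB.exists_fixed_point_of_prime_dvd_card_of_fixed_point N hdvd
    (a := (1 : N)) (fun g => smul_one g)
  intro hbot
  have : (b : H) ∈ N ⊓ centralizer (K : Set H) := by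
    refine ⟨b.2, mem_centralizer_iff.2 fun x hx => ?_⟩
    have h1 := congrArg Subtype.val
      (hb ⟨N.normalizerMonoidHom (inclusion hK ⟨x, hx⟩), ⟨x, hx⟩, rfl⟩)
    have h2 : x * b * x⁻¹ = (b : H) := h1
    exact mul_inv_eq_iff_eq_mul.1 h2
  rw [hbot, Subgroup.mem_bot] at this
  exact hne1 (Subtype.ext this.symm)

/-! ### Sections -/

variable {G : Type u} [Group G]

/-- The centraliser of the section `V/U` in `N(U) ∩ N(V)`. -/
def secC (U V : Subgroup G) : Subgroup G where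
  carrier := {x | x ∈ normalizer (U : Set G) ⊓ normalizer (V : Set G) ∧ ∀ v ∈ V, x * v * x⁻¹ * v⁻¹ ∈ U}
  one_mem' := ⟨one_mem _, fun v _ => by simp⟩
  mul_mem' := fun {x y} hx hy => ⟨mul_mem hx.1 hy.1, fun v hv => by
    have h1 := (Subgroup.mem_normalizer_iff.1 hx.1.1 _).1 (hy.2 v hv)
    have := mul_mem h1 (hx.2 v hv)
    have e : x * y * v * (x * y)⁻¹ * v⁻¹ = x * (y * v * y⁻¹ * v⁻¹) * x⁻¹ * (x * v * x⁻¹ * v⁻¹) := by group
    rw [e]; exact this⟩
  inv_mem' := fun {x} hx => ⟨inv_mem hx.1, fun v hv => by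
    have h1 := (Subgroup.mem_normalizer_iff''.1 hx.1.1 _).1 (inv_mem (hx.2 v hv))
    have e : x⁻¹ * v * x⁻¹⁻¹ * v⁻¹ = x⁻¹ * (x * v * x⁻¹ * v⁻¹)⁻¹ * x := by group
    rw [e]; exact h1⟩

theorem mem_secC {U V : Subgroup G} {x : G} : x ∈ secC U V ↔
    (x ∈ normalizer (U : Set G) ∧ x ∈ normalizer (V : Set G)) ∧ ∀ v ∈ V, x * v * x⁻¹ * v⁻¹ ∈ U := Iff.rfl

/-- The fixed points of `A` on the section `V/U`. -/
def fixSec (U V A : Subgroup G) : Subgroup G where
  carrier := {v | v ∈ V ⊓ normalizer (U : Set G) ∧ ∀ a ∈ A, a * v * a⁻¹ * v⁻¹ ∈ U}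
  one_mem' := ⟨one_mem _, fun v _ => by simp⟩
  mul_mem' := fun {v w} hv hw => ⟨mul_mem hv.1 hw.1, fun a ha => by
    have := mul_mem (hv.2 a ha) ((Subgroup.mem_normalizer_iff.1 hv.1.2 _).1 (hw.2 a ha))
    have e : a * (v * w) * a⁻¹ * (v * w)⁻¹ = a * v * a⁻¹ * v⁻¹ * (v * (a * w * a⁻¹ * w⁻¹) * v⁻¹) := by group
    rw [e]; exact this⟩
  inv_mem' := fun {v} hv => ⟨inv_mem hv.1, fun a ha => by
    have h1 := (Subgroup.mem_normalizer_iff''.1 hv.1.2 _).1 (inv_mem (hv.2 a ha))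
    have e : a * v⁻¹ * a⁻¹ * v⁻¹⁻¹ = v⁻¹ * (a * v * a⁻¹ * v⁻¹)⁻¹ * v := by group
    rw [e]; exact h1⟩

theorem mem_fixSec {U V A : Subgroup G} {v : G} : v ∈ fixSec U V A ↔
    (v ∈ V ∧ v ∈ normalizer (U : Set G)) ∧ ∀ a ∈ A, a * v * a⁻¹ * v⁻¹ ∈ U := Iff.rfl

theorem commute_iff_section {G' : Type u} [Group G'] (π : G →* G') {x y : G} :
    π x * π y = π y * π x ↔ x * y * x⁻¹ * y⁻¹ ∈ π.ker := by
  rw [MonoidHom.mem_ker, map_mul, map_mul, map_mul, map_inv, map_inv, mul_inv_eq_one,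
    mul_inv_eq_iff_eq_mul]

theorem relIndex_congr {P Q K : Subgroup G} (h : ∀ x ∈ K, x ∈ P ↔ x ∈ Q) :
    P.relIndex K = Q.relIndex K := by
  rw [relIndex, relIndex, show P.subgroupOf K = Q.subgroupOf K from by
    ext x; exact h _ x.2]

/-- The data for passing a section inside `G` to the quotient of `Y`. -/
theorem section_transfer [Finite G] {Y U V : Subgroup G} (hs : Group.IsSolvable Y)
    (hfree : ¬ Cfsg.Involves (Equiv.Perm (Fin 4)) Y) (hUV : U ≤ V) (hVY : V ≤ Y)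
    (hYU : Y ≤ normalizer (U : Set G)) (hYV : Y ≤ normalizer (V : Set G))
    (hsq : ∀ v ∈ V, v * v ∈ U)
    (hO2 : ∀ L : Subgroup G, L ≤ Y → Y ≤ normalizer (L : Set G) → Y ⊓ secC U V ≤ L →
      (∀ x ∈ L, ∃ k : ℕ, x ^ 2 ^ k ∈ secC U V) → L ≤ secC U V) :
    ∃ (H : Type u) (_ : Group H) (_ : Finite H) (π : Y →* H) (Vb : Subgroup H) (_ : Vb.Normal),
      Group.IsSolvable H ∧ ¬ Cfsg.Involves (Equiv.Perm (Fin 4)) H ∧ Function.Surjective π ∧
      (∀ x : Y, π x = 1 ↔ (x : G) ∈ U) ∧ Vb = (V.subgroupOf Y).map π ∧ (∀ v ∈ Vb, v * v = 1) ∧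
      (∀ x : Y, π x ∈ centralizer (Vb : Set H) ↔ (x : G) ∈ secC U V) ∧
      (∀ L : Subgroup H, L.Normal → centralizer (Vb : Set H) ≤ L →
        (∀ x ∈ L, ∃ k : ℕ, x ^ 2 ^ k ∈ centralizer (Vb : Set H)) → L ≤ centralizer (Vb : Set H)) := by
  haveI := hs
  haveI : (U.subgroupOf Y).Normal := normal_subgroupOf_of_le_normalizer hYU
  haveI : (V.subgroupOf Y).Normal := normal_subgroupOf_of_le_normalizer hYV
  set π := QuotientGroup.mk' (U.subgroupOf Y)
  have hsurj : Function.Surjective π := QuotientGroup.mk'_surjective _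
  have hπ : ∀ x : Y, π x = 1 ↔ (x : G) ∈ U := fun x => QuotientGroup.eq_one_iff x
  haveI hVn : ((V.subgroupOf Y).map π).Normal := Normal.map inferInstance π hsurj
  have hcent : ∀ x : Y, π x ∈ centralizer (((V.subgroupOf Y).map π : Subgroup _) : Set (Y ⧸ U.subgroupOf Y))
      ↔ (x : G) ∈ secC U V := by
    intro x
    rw [mem_centralizer_iff, mem_secC]
    constructor
    · refine fun h => ⟨⟨hYU x.2, hYV x.2⟩, fun v hv => ?_⟩
      have := (h (π ⟨v, hVY hv⟩) ⟨⟨v, hVY hv⟩, hv, rfl⟩).symm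
      rw [commute_iff_section, QuotientGroup.ker_mk', mem_subgroupOf] at this
      exact this
    · rintro ⟨-, h⟩ _ ⟨w, hw, rfl⟩
      refine ((commute_iff_section π).2 ?_).symm
      rw [QuotientGroup.ker_mk', mem_subgroupOf]
      exact h _ hw
  refine ⟨Y ⧸ U.subgroupOf Y, inferInstance, inferInstance, π, (V.subgroupOf Y).map π, hVn,
    solvable_of_surjective hsurj, fun h => hfree (PComplement.involves_of_quotient h), hsurj, hπ, rfl,
    ?_, hcent, ?_⟩
  · rintro _ ⟨v, hv, rfl⟩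
    rw [← map_mul, hπ]
    exact hsq _ hv
  · intro L hL hCL hpow y hy
    obtain ⟨x, rfl⟩ := hsurj y
    rw [hcent]
    refine hO2 ((L.comap π).map Y.subtype) (map_subtype_le _) ?_ ?_ ?_ (mem_map_of_mem _ hy)
    · haveI : (L.comap π).Normal := Normal.comap hL π
      refine le_trans ?_ ((L.comap π).le_normalizer_map Y.subtype)
      rw [normalizer_eq_top, ← MonoidHom.range_eq_map, range_subtype]
    · rintro g ⟨hgY, hg⟩
      exact ⟨⟨g, hgY⟩, hCL ((hcent ⟨g, hgY⟩).2 hg), rfl⟩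
    · rintro _ ⟨g, hg, rfl⟩
      obtain ⟨k, hk⟩ := hpow _ hg
      rw [← map_pow, hcent] at hk
      exact ⟨k, by simpa using hk⟩

section Transfer

variable {Y U V A : Subgroup G} {K : Type u} [Group K] {π : Y →* K} {Vb : Subgroup K}

theorem comap_centralizer_iff (hπ : ∀ x : Y, π x = 1 ↔ (x : G) ∈ U) (hYU : Y ≤ normalizer (U : Set G))
    (hA : A ≤ Y) {v : Y} (hv : (v : G) ∈ V) :
    π v ∈ centralizer (((A.subgroupOf Y).map π : Subgroup K) : Set K) ↔ (v : G) ∈ fixSec U V A := by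
  rw [mem_centralizer_iff, mem_fixSec]
  have hker : ∀ x : Y, x ∈ π.ker ↔ (x : G) ∈ U := fun x => MonoidHom.mem_ker.trans (hπ x)
  constructor
  · refine fun h => ⟨⟨hv, hYU v.2⟩, fun a ha => ?_⟩
    have := (commute_iff_section π).1 (h (π ⟨a, hA ha⟩) ⟨⟨a, hA ha⟩, ha, rfl⟩)
    exact (hker _).1 this
  · rintro ⟨-, h⟩ _ ⟨a, ha, rfl⟩
    exact (commute_iff_section π).2 ((hker _).2 (h _ ha))

theorem relIndex_fix_eq (hπ : ∀ x : Y, π x = 1 ↔ (x : G) ∈ U) (hYU : Y ≤ normalizer (U : Set G))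
    (hA : A ≤ Y) (hVY : V ≤ Y) (hVb : Vb = (V.subgroupOf Y).map π) :
    (centralizer (((A.subgroupOf Y).map π : Subgroup K) : Set K)).relIndex Vb =
      (fixSec U V A).relIndex V := by
  rw [hVb, ← relIndex_comap, relIndex_congr (Q := (fixSec U V A).subgroupOf Y)
    (fun x hx => (comap_centralizer_iff hπ hYU hA hx).trans mem_subgroupOf.symm),
    relIndex_subgroupOf hVY]

theorem relIndex_cent_eq (hA : A ≤ Y)
    (hcent : ∀ x : Y, π x ∈ centralizer (Vb : Set K) ↔ (x : G) ∈ secC U V) :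
    (centralizer (Vb : Set K)).relIndex ((A.subgroupOf Y).map π) = (secC U V).relIndex A := by
  rw [← relIndex_comap, relIndex_congr (Q := (secC U V).subgroupOf Y) (fun x _ => by
    rw [mem_comap, mem_subgroupOf]; exact hcent x), relIndex_subgroupOf hA]

end Transfer

/-- `|A : C_A(V/U)|² ≤ |V/U : C(A)|`. -/
theorem section_bound [Finite G] {Y U V A : Subgroup G} (hs : Group.IsSolvable Y)
    (hfree : ¬ Cfsg.Involves (Equiv.Perm (Fin 4)) Y) (hUV : U ≤ V) (hVY : V ≤ Y)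
    (hYU : Y ≤ normalizer (U : Set G)) (hYV : Y ≤ normalizer (V : Set G))
    (hsq : ∀ v ∈ V, v * v ∈ U)
    (hO2 : ∀ L : Subgroup G, L ≤ Y → Y ≤ normalizer (L : Set G) → Y ⊓ secC U V ≤ L →
      (∀ x ∈ L, ∃ k : ℕ, x ^ 2 ^ k ∈ secC U V) → L ≤ secC U V)
    (hA : A ≤ Y) (hAsq : ∀ a ∈ A, a * a ∈ secC U V) :
    (secC U V).relIndex A ^ 2 ≤ (fixSec U V A).relIndex V := by
  obtain ⟨K, _, _, π, Vb, _, hsK, hfK, hsurj, hπ, hVb, hVsq, hcent, hO⟩ :=
    section_transfer hs hfree hUV hVY hYU hYV hsq hO2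
  haveI := hsK
  have h := bound_normal hfK Vb hVsq hO ((A.subgroupOf Y).map π) (by
    rintro _ ⟨a, ha, rfl⟩
    rw [← map_mul, hcent]
    exact hAsq _ ha)
  rwa [relIndex_cent_eq hA hcent, relIndex_fix_eq hπ hYU hA hVY hVb] at h

/-- The equality case of `section_bound`. -/
theorem section_eq [Finite G] {Y U V A : Subgroup G} (hs : Group.IsSolvable Y)
    (hfree : ¬ Cfsg.Involves (Equiv.Perm (Fin 4)) Y) (hUV : U ≤ V) (hVY : V ≤ Y)
    (hYU : Y ≤ normalizer (U : Set G)) (hYV : Y ≤ normalizer (V : Set G))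
    (hsq : ∀ v ∈ V, v * v ∈ U)
    (hO2 : ∀ L : Subgroup G, L ≤ Y → Y ≤ normalizer (L : Set G) → Y ⊓ secC U V ≤ L →
      (∀ x ∈ L, ∃ k : ℕ, x ^ 2 ^ k ∈ secC U V) → L ≤ secC U V)
    (hA : A ≤ Y) (hAsq : ∀ a ∈ A, a * a ∈ secC U V) (hne : ¬ A ≤ secC U V)
    (heq : (fixSec U V A).relIndex V ≤ (secC U V).relIndex A ^ 2) :
    ∃ a ∈ A, ∃ c ∈ Y, ∃ Y₀ : Subgroup G,
      (∃ n : ℕ, Odd n ∧ (c⁻¹ * a * c * a) ^ n ∈ secC U V) ∧
      Y₀ ≤ fixSec U V A ∧
      (∀ y ∈ Y₀, (c⁻¹ * a * c * a) * y * (c⁻¹ * a * c * a)⁻¹ * y⁻¹ ∈ U) ∧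
      Y₀.relIndex V ≤ 4 * (secC U V).relIndex A ^ 2 ∧
      ∃ v ∈ fixSec U V A, (c⁻¹ * a * c * a) * v * (c⁻¹ * a * c * a)⁻¹ ∉ fixSec U V A := by
  obtain ⟨K, _, _, π, Vb, _, hsK, hfK, hsurj, hπ, hVb, hVsq, hcent, hO⟩ :=
    section_transfer hs hfree hUV hVY hYU hYV hsq hO2
  haveI := hsK
  obtain ⟨_, ⟨a, ha, rfl⟩, cb, Y₀, ⟨n, hn, hrn⟩, hY1, hY2, hY3, v, hv1, hv2⟩ :=
    eq_normal hfK Vb hVsq hO ((A.subgroupOf Y).map π) (by
      rintro _ ⟨a, ha, rfl⟩
      rw [← map_mul, hcent]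
      exact hAsq _ ha)
      (fun hle => hne fun a ha => (hcent ⟨a, hA ha⟩).1 (hle ⟨⟨a, hA ha⟩, ha, rfl⟩))
      (by rwa [relIndex_cent_eq hA hcent, relIndex_fix_eq hπ hYU hA hVY hVb])
  obtain ⟨c, rfl⟩ := hsurj cb
  rw [← map_inv, ← map_mul, ← map_mul, ← map_mul] at hrn hY2 hv2
  set r : Y := c⁻¹ * a * c * a with hr
  have hrG : (c : G)⁻¹ * (a : G) * c * a = (r : G) := rfl
  have hmemV : ∀ x : Y, π x ∈ Vb → (x : G) ∈ V := by
    intro x hx
    rw [hVb] at hx
    obtain ⟨y, hy, hy'⟩ := hx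
    have h1 : ((y⁻¹ * x : Y) : G) ∈ U := (hπ _).1 (by rw [map_mul, map_inv, hy', inv_mul_cancel])
    have h2 := mul_mem (show (y : G) ∈ V from hy) (hUV h1)
    simpa using h2
  have hlift : ∀ x ∈ Vb ⊓ centralizer (((A.subgroupOf Y).map π : Subgroup K) : Set K),
      ∀ w : Y, π w = x → (w : G) ∈ fixSec U V A := by
    rintro x ⟨hx1, hx2⟩ w rfl
    exact (comap_centralizer_iff hπ hYU hA (hmemV w hx1)).1 hx2
  refine ⟨a, ha, c, c.2, (Y₀.comap π).map Y.subtype, ⟨n, hn, ?_⟩, ?_, ?_, ?_, ?_⟩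
  · rw [← map_pow, hcent] at hrn
    rw [hrG]
    simpa using hrn
  · rintro _ ⟨w, hw, rfl⟩
    exact hlift _ (hY1 hw) w rfl
  · rintro _ ⟨w, hw, rfl⟩
    rw [hrG]
    have := (commute_iff_section π).1 (hY2 _ hw)
    exact (hπ _).1 this
  · rw [← relIndex_subgroupOf hVY, subgroupOf,
      Subgroup.comap_map_eq_self_of_injective Y.subtype_injective, relIndex_comap, ← hVb,
      ← relIndex_cent_eq hA hcent]
    exact hY3
  · obtain ⟨w, rfl⟩ := hsurj v
    refine ⟨w, hlift _ hv1 w rfl, fun hcon => hv2 ?_⟩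
    rw [hrG] at hcon
    rw [← map_inv, ← map_mul, ← map_mul]
    exact (comap_centralizer_iff hπ hYU hA (v := r * w * r⁻¹) (mem_fixSec.1 hcon).1.1).2 hcon

theorem secC_mono_le {U₀ U V : Subgroup G} (hU : U₀ ≤ U) {x : G} (hx : x ∈ secC U₀ V)
    (hxU : x ∈ normalizer (U : Set G)) : x ∈ secC U V :=
  mem_secC.2 ⟨⟨hxU, (mem_secC.1 hx).1.2⟩, fun v hv => hU ((mem_secC.1 hx).2 v hv)⟩

theorem le_normalizer_secC {Y U V : Subgroup G} (hYU : Y ≤ normalizer (U : Set G))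
    (hYV : Y ≤ normalizer (V : Set G)) : Y ≤ normalizer (secC U V : Set G) := by
  have key : ∀ g ∈ Y, ∀ x ∈ secC U V, g * x * g⁻¹ ∈ secC U V := by
    intro g hg x hx
    rw [mem_secC] at hx ⊢
    refine ⟨⟨mul_mem (mul_mem (hYU hg) hx.1.1) (inv_mem (hYU hg)),
      mul_mem (mul_mem (hYV hg) hx.1.2) (inv_mem (hYV hg))⟩, fun v hv => ?_⟩
    have h1 := hx.2 _ ((Subgroup.mem_normalizer_iff''.1 (hYV hg) v).1 hv)
    have h2 := (Subgroup.mem_normalizer_iff.1 (hYU hg) _).1 h1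
    have e : g * x * g⁻¹ * v * (g * x * g⁻¹)⁻¹ * v⁻¹ =
        g * (x * (g⁻¹ * v * g) * x⁻¹ * (g⁻¹ * v * g)⁻¹) * g⁻¹ := by group
    rw [e]; exact h2
  intro g hg
  refine Subgroup.mem_normalizer_iff.2 fun x => ⟨key g hg x, fun hx => ?_⟩
  simpa [mul_assoc] using key g⁻¹ (inv_mem hg) _ hx

theorem le_normalizer_fixSec {Y U V A : Subgroup G} (hYU : Y ≤ normalizer (U : Set G))
    (hYV : Y ≤ normalizer (V : Set G)) (hYA : Y ≤ normalizer (A : Set G)) :
    Y ≤ normalizer (fixSec U V A : Set G) := by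
  have key : ∀ g ∈ Y, ∀ x ∈ fixSec U V A, g * x * g⁻¹ ∈ fixSec U V A := by
    intro g hg x hx
    rw [mem_fixSec] at hx ⊢
    refine ⟨⟨(Subgroup.mem_normalizer_iff.1 (hYV hg) x).1 hx.1.1,
      mul_mem (mul_mem (hYU hg) hx.1.2) (inv_mem (hYU hg))⟩, fun a ha => ?_⟩
    have h1 := hx.2 _ ((Subgroup.mem_normalizer_iff''.1 (hYA hg) a).1 ha)
    have h2 := (Subgroup.mem_normalizer_iff.1 (hYU hg) _).1 h1
    have e : a * (g * x * g⁻¹) * a⁻¹ * (g * x * g⁻¹)⁻¹ =
        g * ((g⁻¹ * a * g) * x * (g⁻¹ * a * g)⁻¹ * x⁻¹) * g⁻¹ := by group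
    rw [e]; exact h2
  intro g hg
  refine Subgroup.mem_normalizer_iff.2 fun x => ⟨key g hg x, fun hx => ?_⟩
  simpa [mul_assoc] using key g⁻¹ (inv_mem hg) _ hx

/-- On a section without proper invariant subsections a normal 2-subgroup acts trivially. -/
theorem le_secC_of_irreducible [Finite G] {Y U V : Subgroup G} (hUV : U < V) (hVY : V ≤ Y)
    (hYU : Y ≤ normalizer (U : Set G)) (hYV : Y ≤ normalizer (V : Set G))
    (hV : IsPGroup 2 V)
    (hirr : ∀ T : Subgroup G, U ≤ T → T ≤ V → Y ≤ normalizer (T : Set G) → T = U ∨ T = V)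
    {L : Subgroup G} (hL : L ≤ Y) (hLn : Y ≤ normalizer (L : Set G))
    (hpow : ∀ x ∈ L, ∃ k : ℕ, x ^ 2 ^ k ∈ secC U V) : L ≤ secC U V := by
  have hT : fixSec U V L = V := by
    refine (hirr _ ?_ (fun v hv => (mem_fixSec.1 hv).1.1) (le_normalizer_fixSec hYU hYV hLn)).resolve_left ?_
    · intro u hu
      refine mem_fixSec.2 ⟨⟨hUV.le hu, le_normalizer hu⟩, fun a ha => ?_⟩
      exact mul_mem ((Subgroup.mem_normalizer_iff.1 (hYU (hL ha)) u).1 hu) (inv_mem hu)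
    · intro heq
      haveI : (U.subgroupOf Y).Normal := normal_subgroupOf_of_le_normalizer hYU
      set π := QuotientGroup.mk' (U.subgroupOf Y)
      have hπ : ∀ x : Y, π x = 1 ↔ (x : G) ∈ U := fun x => QuotientGroup.eq_one_iff x
      set N := (V.subgroupOf Y).map π with hN
      haveI : (V.subgroupOf Y).Normal := normal_subgroupOf_of_le_normalizer hYV
      haveI hNn : N.Normal := Normal.map inferInstance π (QuotientGroup.mk'_surjective _)
      have hNne : N ≠ ⊥ := by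
        intro e
        refine hUV.2 fun v hv => (hπ ⟨v, hVY hv⟩).1 ?_
        exact Subgroup.mem_bot.1 (e ▸ ⟨⟨v, hVY hv⟩, hv, rfl⟩)
      refine exists_fixed_two (K := (L.subgroupOf Y).map π)
        ((hV.of_equiv (subgroupOfEquivOfLe hVY).symm).map π) hNne
        (by rw [normalizer_eq_top]; exact le_top) ?_ ?_
      · rintro _ ⟨x, hx, rfl⟩
        obtain ⟨k, hk⟩ := hpow _ hx
        refine ⟨k, ?_⟩
        rw [← map_pow, mem_centralizer_iff]
        rintro _ ⟨w, hw, rfl⟩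
        refine ((commute_iff_section π).2 ?_).symm
        rw [QuotientGroup.ker_mk', mem_subgroupOf]
        simpa using (mem_secC.1 hk).2 _ hw
      · rw [Subgroup.eq_bot_iff_forall]
        rintro _ ⟨⟨w, hw, rfl⟩, hc⟩
        exact (hπ w).2 (heq.le ((comap_centralizer_iff hπ hYU hL hw).1 hc))
  intro x hx
  refine mem_secC.2 ⟨⟨hYU (hL hx), hYV (hL hx)⟩, fun v hv => ?_⟩
  exact (mem_fixSec.1 (hT.ge hv)).2 x hx

theorem relIndex_sup_eq [Finite G] {F U : Subgroup G} (h : F ≤ normalizer (U : Set G)) :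
    F.relIndex (F ⊔ U) = F.relIndex U := by
  have a1 := relIndex_mul_relIndex ⊥ F (F ⊔ U) bot_le le_sup_left
  have a2 := relIndex_mul_relIndex ⊥ U (F ⊔ U) bot_le le_sup_right
  have a3 := relIndex_mul_relIndex ⊥ (F ⊓ U) U bot_le inf_le_right
  have a4 := relIndex_mul_relIndex ⊥ (F ⊓ U) F bot_le inf_le_left
  rw [relIndex_bot_left, relIndex_bot_left] at a1 a2 a3 a4
  rw [inf_relIndex_right] at a3
  rw [inf_relIndex_left] at a4
  rw [Coprime.relIndex_sup_right_of_le_normalizer h] at a2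
  have hu : 0 < Nat.card (F ⊓ U : Subgroup G) * U.relIndex F := by rw [a4]; exact Nat.card_pos
  refine Nat.eq_of_mul_eq_mul_left hu ?_
  rw [a4, a1, ← a2, ← a3, ← a4]
  ring

/-- The bound along a chief series: only elements acting as odd-trivial are lost. -/
theorem series_bound [Finite G] {Y U₀ : Subgroup G} (hs : Group.IsSolvable Y)
    (hfree : ¬ Cfsg.Involves (Equiv.Perm (Fin 4)) Y) (hYU₀ : Y ≤ normalizer (U₀ : Set G)) :
    ∀ V : Subgroup G, U₀ ≤ V → V ≤ Y → Y ≤ normalizer (V : Set G) → IsPGroup 2 V →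
      (∀ v ∈ V, v * v ∈ U₀) → ∀ A ≤ Y, (∀ a ∈ A, a * a = 1) →
      ∃ K : Subgroup G, K ≤ Y ∧ Y ≤ normalizer (K : Set G) ∧
        (∀ x ∈ K, Odd (orderOf x) → x ∈ secC U₀ V) ∧
        K.relIndex A ^ 2 ≤ (fixSec U₀ V A).relIndex V := by
  haveI : Fact (Nat.Prime 2) := ⟨Nat.prime_two⟩
  intro V
  induction V using WellFoundedLT.induction with
  | _ V ih =>
  intro hUV hVY hYV hV hsq A hA hAsq
  by_cases heq : V = U₀
  · refine ⟨Y, le_rfl, le_normalizer, fun x hx _ => mem_secC.2 ⟨⟨hYU₀ hx, hYV hx⟩, fun v hv => ?_⟩, ?_⟩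
    · rw [heq] at hv
      exact mul_mem ((Subgroup.mem_normalizer_iff.1 (hYU₀ hx) v).1 hv) (inv_mem hv)
    · rw [relIndex_eq_one.2 hA, one_pow]
      exact Nat.one_le_iff_ne_zero.2 Subgroup.index_ne_zero_of_finite
  obtain ⟨U, ⟨hU1, hU2, hU3⟩, hUmax⟩ :=
    (Set.toFinite {U : Subgroup G | U₀ ≤ U ∧ U < V ∧ Y ≤ normalizer (U : Set G)}).exists_maximal
      ⟨U₀, le_rfl, hUV.lt_of_ne (Ne.symm heq), hYU₀⟩
  have hirr : ∀ T : Subgroup G, U ≤ T → T ≤ V → Y ≤ normalizer (T : Set G) → T = U ∨ T = V := by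
    intro T h1 h2 h3
    by_cases hT : T = V
    · exact Or.inr hT
    · exact Or.inl (le_antisymm (hUmax ⟨hU1.trans h1, h2.lt_of_ne hT, h3⟩ h1) h1)
  have hbound := section_bound (A := A) hs hfree hU2.le hVY hU3 hYV (fun v hv => hU1 (hsq v hv))
    (fun L hL hLn _ hpow => le_secC_of_irreducible hU2 hVY hU3 hYV hV hirr hL hLn hpow) hA
    (fun a ha => by rw [hAsq a ha]; exact one_mem _)
  set A₀ := A ⊓ secC U V
  obtain ⟨K', hK'Y, hK'n, hK'odd, hK'b⟩ := ih U hU2 hU1 (hU2.le.trans hVY) hU3 (hV.to_le hU2.le)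
    (fun v hv => hsq v (hU2.le hv)) A₀ (inf_le_left.trans hA) fun a ha => hAsq a ha.1
  refine ⟨secC U V ⊓ K', inf_le_right.trans hK'Y, ?_, ?_, ?_⟩
  · intro y hy
    exact Subgroup.mem_normalizer_iff.2 fun x => and_congr
      (Subgroup.mem_normalizer_iff.1 (le_normalizer_secC hU3 hYV hy) x)
      (Subgroup.mem_normalizer_iff.1 (hK'n hy) x)
  · intro x hx hodd
    have hxY := hK'Y hx.2
    refine mem_secC.2 ⟨⟨hYU₀ hxY, hYV hxY⟩, fun v hv => ?_⟩
    -- coprime action on `U₀ ≤ U ≤ V`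
    have h1 : x * v * x⁻¹ * v⁻¹ ∈ U := (mem_secC.1 hx.1).2 v hv
    have hxK : ∀ u ∈ U, x * u * x⁻¹ * u⁻¹ ∈ U₀ := (mem_secC.1 (hK'odd x hx.2 hodd)).2
    haveI : (U₀.subgroupOf Y).Normal := normal_subgroupOf_of_le_normalizer hYU₀
    set π := QuotientGroup.mk' (U₀.subgroupOf Y)
    set w : Y := ⟨x * v * x⁻¹ * v⁻¹, hU2.le.trans hVY h1⟩ with hw
    have e1 : π ⟨x, hxY⟩ * π ⟨v, hVY hv⟩ * (π ⟨x, hxY⟩)⁻¹ = π w * π ⟨v, hVY hv⟩ := by
      rw [← map_inv, ← map_mul, ← map_mul, ← map_mul]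
      congr 1
      exact Subtype.ext (by simp [hw, mul_assoc])
    have e2 : Commute (π ⟨x, hxY⟩) (π w) := by
      refine (commute_iff_section π).2 ?_
      rw [QuotientGroup.ker_mk', mem_subgroupOf]
      exact hxK _ h1
    have hcop : (orderOf (π ⟨x, hxY⟩)).Coprime (orderOf (π w)) := by
      have h2 : orderOf (π ⟨x, hxY⟩) ∣ orderOf x :=
        (orderOf_map_dvd _ _).trans (dvd_of_eq (Subgroup.orderOf_mk _ _))
      have h3 : orderOf (π w) ∣ orderOf (x * v * x⁻¹ * v⁻¹) :=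
        (orderOf_map_dvd _ _).trans (dvd_of_eq (Subgroup.orderOf_mk _ _))
      obtain ⟨k, hk⟩ := hV ⟨_, hU2.le h1⟩
      have h4 : orderOf (x * v * x⁻¹ * v⁻¹) ∣ 2 ^ k :=
        orderOf_dvd_of_pow_eq_one (congrArg Subtype.val hk)
      exact ((Nat.coprime_two_right.2 hodd).pow_right k).coprime_dvd_left h2 |>.coprime_dvd_right
        (h3.trans h4)
    have hcomm := Coprime.commute_of_translate e1 e2 hcop
    have h5 := (commute_iff_section π).1 hcomm.eq
    rw [QuotientGroup.ker_mk', mem_subgroupOf] at h5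
    exact h5
  · -- the indices multiply
    have hF0 : fixSec U₀ V A ≤ fixSec U V A := fun v hv => by
      obtain ⟨⟨h1, -⟩, h2⟩ := mem_fixSec.1 hv
      exact mem_fixSec.2 ⟨⟨h1, hU3 (hVY h1)⟩, fun a ha => hU1 (h2 a ha)⟩
    set F₀ := fixSec U₀ V A
    have hFV : F₀ ≤ V := fun v hv => (mem_fixSec.1 hv).1.1
    have hFn : F₀ ≤ normalizer (U : Set G) := (hFV.trans hVY).trans hU3
    have e1 : F₀.relIndex (F₀ ⊔ U) = F₀.relIndex U := relIndex_sup_eq hFn
    have e2 : F₀.relIndex V = F₀.relIndex U * (F₀ ⊔ U).relIndex V := by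
      rw [← e1, relIndex_mul_relIndex F₀ (F₀ ⊔ U) V le_sup_left (sup_le hFV hU2.le)]
    have h3 : (fixSec U V A).relIndex V ≤ (F₀ ⊔ U).relIndex V := by
      refine Nat.le_of_dvd (Nat.pos_of_ne_zero Subgroup.index_ne_zero_of_finite)
        (relIndex_dvd_of_le_left V (sup_le hF0 fun u hu => mem_fixSec.2 ⟨⟨hU2.le hu, le_normalizer hu⟩,
          fun a ha => mul_mem ((Subgroup.mem_normalizer_iff.1 (hU3 (hA ha)) u).1 hu) (inv_mem hu)⟩))
    have h4 : (fixSec U₀ U A₀).relIndex U ≤ F₀.relIndex U := by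
      rw [← inf_relIndex_right F₀ U]
      refine Nat.le_of_dvd (Nat.pos_of_ne_zero Subgroup.index_ne_zero_of_finite)
        (relIndex_dvd_of_le_left U ?_)
      rintro v ⟨hv, hvU⟩
      obtain ⟨⟨-, hvn⟩, h2⟩ := mem_fixSec.1 hv
      exact mem_fixSec.2 ⟨⟨hvU, hvn⟩, fun a ha => h2 a ha.1⟩
    have h5 : (secC U V ⊓ K').relIndex A = K'.relIndex A₀ * (secC U V).relIndex A := by
      rw [← inf_relIndex_right (secC U V ⊓ K') A, ← inf_relIndex_right K' A₀,
        ← inf_relIndex_right (secC U V) A]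
      rw [show secC U V ⊓ K' ⊓ A = K' ⊓ A₀ by simp only [A₀]; ac_rfl,
        show secC U V ⊓ A = A₀ from inf_comm _ _]
      exact (relIndex_mul_relIndex _ _ _ inf_le_right inf_le_left).symm
    rw [h5, mul_pow, e2]
    exact Nat.mul_le_mul (hK'b.trans h4) (hbound.trans h3)

end Cfsg.Agent.TwoLocalFree
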