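import Cfsg.Prelude.Def_Involutions
import Cfsg.Prelude.Def_CaseTheorems
import Cfsg.Agent.Lib.TwoLocalFree.Section
import Cfsg.Agent.Lib.PCore.HallHigman
import Cfsg.Agent.Lib.OddOrder.PuigStable

set_option autoImplicit false

/-! Maximal 2-locals of a group whose 2-locals are solvable, of characteristic 2 and `S₄`-free.

* `cj`, `EA`, `zc T = Ω₁(Z(T))`, `jEA T = J(T)`, `zclos M T = ⟨Ω₁(Z(T))^M⟩`;
* `Ctx M T`: a maximal 2-local `M` with Sylow 2-subgroup `T`; its basic properties;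
* `sum_bound`: the square bound passes to sums. -/

namespace Cfsg.Agent.TwoLocalFree

open Subgroup PuigPair

universe u

variable {G : Type u} [Group G]

/-! ### Conjugates -/

/-- `g X g⁻¹`. -/
def cj (g : G) (X : Subgroup G) : Subgroup G := X.map (MulAut.conj g).toMonoidHom

theorem mem_cj {g x : G} {X : Subgroup G} : x ∈ cj g X ↔ g⁻¹ * x * g ∈ X := by
  constructor
  · rintro ⟨y, hy, rfl⟩
    simpa [mul_assoc] using hy
  · intro h
    exact ⟨_, h, by simp [mul_assoc]⟩

theorem conj_mem_cj {g x : G} {X : Subgroup G} (hx : x ∈ X) : g * x * g⁻¹ ∈ cj g X :=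
  mem_cj.2 (by simpa [mul_assoc] using hx)

theorem cj_one (X : Subgroup G) : cj 1 X = X := by
  ext x; simp [mem_cj]

theorem cj_mul (g h : G) (X : Subgroup G) : cj (g * h) X = cj g (cj h X) := by
  ext x; simp [mem_cj, mul_assoc]

theorem cj_mono {g : G} {X Y : Subgroup G} (h : X ≤ Y) : cj g X ≤ cj g Y := map_mono h

theorem cj_inv_cj (g : G) (X : Subgroup G) : cj g⁻¹ (cj g X) = X := by
  rw [← cj_mul, inv_mul_cancel, cj_one]

theorem cj_cj_inv (g : G) (X : Subgroup G) : cj g (cj g⁻¹ X) = X := by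
  rw [← cj_mul, mul_inv_cancel, cj_one]

theorem cj_eq_self {g : G} {X : Subgroup G} (hg : g ∈ normalizer (X : Set G)) : cj g X = X := by
  ext x
  rw [mem_cj]
  exact (Subgroup.mem_normalizer_iff''.1 hg x).symm

theorem le_normalizer_of_cj {H X : Subgroup G} (h : ∀ g ∈ H, cj g X ≤ X) :
    H ≤ normalizer (X : Set G) := by
  intro g hg
  refine Subgroup.mem_normalizer_iff.2 fun x => ⟨fun hx => h g hg (conj_mem_cj hx), fun hx => ?_⟩
  simpa [mul_assoc] using h g⁻¹ (inv_mem hg) (conj_mem_cj (g := g⁻¹) hx)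

theorem cj_centralizer (g : G) (A : Subgroup G) :
    cj g (centralizer (A : Set G)) = centralizer (cj g A : Set G) := by
  ext x
  rw [mem_cj, mem_centralizer_iff, mem_centralizer_iff]
  constructor
  · intro h a ha
    have := h _ (mem_cj.1 ha)
    calc a * x = g * (g⁻¹ * a * g * (g⁻¹ * x * g)) * g⁻¹ := by group
      _ = x * a := by rw [this]; group
  · intro h a ha
    have := h _ (conj_mem_cj (g := g) ha)
    calc a * (g⁻¹ * x * g) = g⁻¹ * (g * a * g⁻¹ * x) * g := by group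
      _ = g⁻¹ * x * g * a := by rw [this]; group

theorem cj_normalizer (g : G) (A : Subgroup G) :
    cj g (normalizer (A : Set G)) = normalizer (cj g A : Set G) := by
  ext x
  rw [mem_cj, Subgroup.mem_normalizer_iff, Subgroup.mem_normalizer_iff]
  constructor
  · intro h a
    rw [mem_cj, mem_cj, h (g⁻¹ * a * g)]
    simp [mul_assoc]
  · intro h a
    have := h (g * a * g⁻¹)
    rw [mem_cj, mem_cj] at this
    simpa [mul_assoc] using this

theorem relIndex_cj (g : G) (H K : Subgroup G) : (cj g H).relIndex (cj g K) = H.relIndex K :=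
  relIndex_map_map_of_injective _ _ (MulAut.conj g).injective

theorem card_cj (g : G) (X : Subgroup G) : Nat.card (cj g X) = Nat.card X :=
  Subgroup.card_map_of_injective (MulAut.conj g).injective

theorem isPGroup_cj {p : ℕ} {g : G} {X : Subgroup G} (h : IsPGroup p X) : IsPGroup p (cj g X) := h.map _

/-- The normal closure of `A` under `H`. -/
def clos (H A : Subgroup G) : Subgroup G := ⨆ h : H, cj (h : G) A

theorem cj_le_clos {H A : Subgroup G} {h : G} (hh : h ∈ H) : cj h A ≤ clos H A :=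
  le_iSup (fun h : H => cj (h : G) A) ⟨h, hh⟩

theorem le_clos (H A : Subgroup G) : A ≤ clos H A := by
  conv_lhs => rw [← cj_one A]
  exact cj_le_clos (one_mem H)

theorem clos_le {H A X : Subgroup G} (hA : A ≤ X) (hX : H ≤ normalizer (X : Set G)) : clos H A ≤ X :=
  iSup_le fun h => (cj_mono hA).trans (cj_eq_self (hX h.2)).le

theorem le_normalizer_clos (H A : Subgroup G) : H ≤ normalizer (clos H A : Set G) := by
  refine le_normalizer_of_cj fun g hg => ?_
  rw [cj, clos, Subgroup.map_iSup]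
  exact iSup_le fun h => (cj_mul g h A).ge.trans (cj_le_clos (mul_mem hg h.2))

/-! ### Elementary abelian 2-subgroups -/

/-- `A` has exponent at most two. -/
def EA (A : Subgroup G) : Prop := ∀ a ∈ A, a * a = 1

theorem EA.mono {A B : Subgroup G} (h : EA B) (hle : A ≤ B) : EA A := fun a ha => h a (hle ha)

theorem EA.comm {A : Subgroup G} (h : EA A) {a b : G} (ha : a ∈ A) (hb : b ∈ A) : a * b = b * a := by
  have h1 := inv_eq_of_mul_eq_one_right (h _ (mul_mem ha hb))
  rw [mul_inv_rev, inv_eq_of_mul_eq_one_right (h a ha), inv_eq_of_mul_eq_one_right (h b hb)] at h1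
  exact h1.symm

theorem EA.le_centralizer {A : Subgroup G} (h : EA A) : A ≤ centralizer (A : Set G) :=
  fun _ ha => mem_centralizer_iff.2 fun _ hb => h.comm hb ha

theorem EA.cj {A : Subgroup G} (h : EA A) (g : G) : EA (cj g A) := by
  rintro _ ⟨a, ha, rfl⟩
  rw [← map_mul, h a ha, map_one]

theorem EA.isPGroup {A : Subgroup G} (h : EA A) : IsPGroup 2 A :=
  fun a => ⟨1, Subtype.ext (by rw [pow_one, pow_two]; exact h a a.2)⟩

theorem EA.sup {A B : Subgroup G} (hA : EA A) (hB : EA B) (hc : A ≤ centralizer (B : Set G)) :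
    EA (A ⊔ B) := by
  intro x hx
  have hn : A ≤ normalizer (B : Set G) := hc.trans (centralizer_le_normalizer _)
  obtain ⟨a, ha, b, hb, rfl⟩ := (Coprime.mem_sup_iff_of_le_normalizer hn).1 hx
  have h := mem_centralizer_iff.1 (hc ha) b hb
  rw [← mul_assoc, mul_assoc a b a, h, ← mul_assoc a a b, hA a ha, one_mul, hB b hb]

/-- `Ω₁(Z(T))`. -/
def zc (T : Subgroup G) : Subgroup G where
  carrier := {x | x ∈ T ⊓ centralizer (T : Set G) ∧ x * x = 1}
  one_mem' := ⟨one_mem _, one_mul 1⟩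
  mul_mem' := fun {x y} hx hy => ⟨mul_mem hx.1 hy.1, by
    have h : x * y = y * x := mem_centralizer_iff.1 hy.1.2 x hx.1.1
    calc x * y * (x * y) = x * (y * x) * y := by group
      _ = x * (x * y) * y := by rw [h]
      _ = 1 := by rw [← mul_assoc, hx.2, one_mul, hy.2]⟩
  inv_mem' := fun {x} hx => ⟨inv_mem hx.1, by rw [← mul_inv_rev, hx.2, inv_one]⟩

theorem mem_zc {T : Subgroup G} {x : G} : x ∈ zc T ↔ (x ∈ T ∧ x ∈ centralizer (T : Set G)) ∧ x * x = 1 :=
  Iff.rfl

theorem zc_le (T : Subgroup G) : zc T ≤ T := fun _ hx => (mem_zc.1 hx).1.1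

theorem zc_le_centralizer (T : Subgroup G) : zc T ≤ centralizer (T : Set G) := fun _ hx => (mem_zc.1 hx).1.2

theorem le_centralizer_zc (T : Subgroup G) : T ≤ centralizer (zc T : Set G) :=
  le_centralizer_iff.1 (zc_le_centralizer T)

theorem EA_zc (T : Subgroup G) : EA (zc T) := fun _ hx => (mem_zc.1 hx).2

theorem cj_zc (g : G) (T : Subgroup G) : cj g (zc T) = zc (cj g T) := by
  ext x
  rw [mem_cj, mem_zc, mem_zc, mem_cj, ← cj_centralizer, mem_cj]
  refine and_congr_right fun _ => ?_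
  rw [show g⁻¹ * x * g * (g⁻¹ * x * g) = g⁻¹ * (x * x) * g by group]
  constructor
  · intro h
    calc x * x = g * (g⁻¹ * (x * x) * g) * g⁻¹ := by group
      _ = 1 := by rw [h, mul_one, mul_inv_cancel]
  · intro h; rw [h, mul_one, inv_mul_cancel]

theorem normalizer_le_normalizer_zc (T : Subgroup G) :
    normalizer (T : Set G) ≤ normalizer (zc T : Set G) :=
  le_normalizer_of_cj fun g hg => by rw [cj_zc, cj_eq_self hg]

theorem zc_ne_bot [Finite G] {T : Subgroup G} (hT : IsPGroup 2 T) (hne : T ≠ ⊥) : zc T ≠ ⊥ := by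
  have h := exists_fixed_two hT hne le_normalizer (fun x hx => by
    obtain ⟨k, hk⟩ := hT ⟨x, hx⟩
    exact ⟨k, by rw [show x ^ 2 ^ k = 1 from congrArg Subtype.val hk]; exact one_mem _⟩)
  have h2 : 2 ∣ Nat.card (T ⊓ centralizer (T : Set G) : Subgroup G) := by
    haveI : Fact (Nat.Prime 2) := ⟨Nat.prime_two⟩
    obtain ⟨n, hn⟩ := IsPGroup.iff_card.1 (hT.to_le (inf_le_left (b := centralizer (T : Set G))))
    rcases n with _ | n
    · exact absurd (Subgroup.card_eq_one.1 (by simpa using hn)) h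
    · exact ⟨2 ^ n, by rw [hn]; ring⟩
  haveI : Fact (Nat.Prime 2) := ⟨Nat.prime_two⟩
  obtain ⟨⟨x, hx⟩, ho⟩ := exists_prime_orderOf_dvd_card' 2 h2
  rw [Subgroup.orderOf_mk] at ho
  intro e
  have : x ∈ zc T := mem_zc.2 ⟨hx, by rw [← pow_two, ← ho, pow_orderOf_eq_one]⟩
  rw [e, Subgroup.mem_bot] at this
  rw [this, orderOf_one] at ho
  omega

/-- An elementary abelian subgroup of largest order in `T`. -/
def MaxEA (T A : Subgroup G) : Prop :=
  A ≤ T ∧ EA A ∧ ∀ B ≤ T, EA B → Nat.card B ≤ Nat.card A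

/-- The elementary Thompson subgroup. -/
def jEA (T : Subgroup G) : Subgroup G := sSup {A | MaxEA T A}

theorem exists_maxEA [Finite G] (T : Subgroup G) : ∃ A, MaxEA T A := by
  obtain ⟨A, ⟨hA1, hA2⟩, hmax⟩ := Set.exists_max_image {A : Subgroup G | A ≤ T ∧ EA A}
    (fun A => Nat.card A) (Set.toFinite _) ⟨⊥, bot_le, fun x hx => by rw [Subgroup.mem_bot.1 hx, one_mul]⟩
  exact ⟨A, hA1, hA2, fun B h1 h2 => hmax B ⟨h1, h2⟩⟩

theorem le_jEA {T A : Subgroup G} (h : MaxEA T A) : A ≤ jEA T := le_sSup h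

theorem jEA_le (T : Subgroup G) : jEA T ≤ T := sSup_le fun _ h => h.1

theorem MaxEA.cj {T A : Subgroup G} (h : MaxEA T A) (g : G) : MaxEA (cj g T) (cj g A) :=
  ⟨cj_mono h.1, h.2.1.cj g, fun B hB hB2 => by
    rw [card_cj, ← card_cj g⁻¹ B]
    exact h.2.2 _ ((cj_mono hB).trans (cj_inv_cj g T).le) (hB2.cj _)⟩

theorem normalizer_le_normalizer_jEA (T : Subgroup G) :
    normalizer (T : Set G) ≤ normalizer (jEA T : Set G) := by
  refine le_normalizer_of_cj fun g hg => ?_
  rw [cj, jEA, sSup_eq_iSup', Subgroup.map_iSup]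
  refine iSup_le fun A => ?_
  refine le_iSup_of_le ⟨TwoLocalFree.cj g A.1, ?_⟩ le_rfl
  have := A.2.cj g
  rwa [cj_eq_self hg] at this

theorem jEA_eq_of_le [Finite G] {T U : Subgroup G} (hJ : jEA T ≤ U) (hU : U ≤ T) : jEA U = jEA T := by
  obtain ⟨A₀, hA₀⟩ := exists_maxEA T
  refine le_antisymm (sSup_le fun A hA => le_sSup ⟨hA.1.trans hU, hA.2.1, fun B hB hB2 => ?_⟩)
    (sSup_le fun A hA => le_sSup ⟨(le_jEA hA).trans hJ, hA.2.1, fun B hB hB2 => hA.2.2 B (hB.trans hU) hB2⟩)
  exact (hA₀.2.2 B hB hB2).trans (hA.2.2 A₀ ((le_jEA hA₀).trans hJ) hA₀.2.1)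

theorem jEA_ne_bot [Finite G] {T : Subgroup G} (hT : IsPGroup 2 T) (hne : T ≠ ⊥) : jEA T ≠ ⊥ := by
  intro e
  obtain ⟨A, hA⟩ := exists_maxEA T
  have h1 := hA.2.2 (zc T) (zc_le T) (EA_zc T)
  rw [show A = ⊥ from le_bot_iff.1 ((le_jEA hA).trans e.le), Subgroup.card_bot] at h1
  exact zc_ne_bot hT hne (Subgroup.card_eq_one.1 (le_antisymm h1 Nat.card_pos))

/-- A subgroup of exponent two normalised by `A` costs at most `|A : C_A(V)|`. -/
theorem MaxEA.index_le [Finite G] {T A V : Subgroup G} (hA : MaxEA T A) (hVT : V ≤ T) (hV : EA V)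
    (hAV : A ≤ normalizer (V : Set G)) :
    (centralizer (A : Set G)).relIndex V ≤ (centralizer (V : Set G)).relIndex A := by
  set C := A ⊓ centralizer (V : Set G)
  have hB := hA.2.2 (C ⊔ V) (sup_le (inf_le_left.trans hA.1) hVT)
    ((hA.2.1.mono inf_le_left).sup hV inf_le_right)
  have hCn : C ≤ normalizer (V : Set G) := inf_le_left.trans hAV
  have e1 := relIndex_mul_relIndex ⊥ C (C ⊔ V) bot_le le_sup_left
  have e2 := relIndex_mul_relIndex ⊥ C A bot_le inf_le_left
  rw [relIndex_bot_left, relIndex_bot_left] at e1 e2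
  rw [inf_relIndex_left] at e2
  rw [relIndex_sup_eq hCn] at e1
  rw [← e1, ← e2] at hB
  refine le_trans ?_ (Nat.le_of_mul_le_mul_left hB Nat.card_pos)
  refine Nat.le_of_dvd (Nat.pos_of_ne_zero Subgroup.index_ne_zero_of_finite) ?_
  rw [← inf_relIndex_right C V]
  exact relIndex_dvd_of_le_left V (inf_le_left.trans (inf_le_left.trans hA.2.1.le_centralizer))

/-- The square bound passes to sums. -/
theorem sum_bound [Finite G] {ι : Type*} (Z : ι → Subgroup G) (s : Finset ι) :
    ∀ A : Subgroup G, (∀ i ∈ s, ∀ B ≤ A,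
      (centralizer (Z i : Set G)).relIndex B ^ 2 ≤ (centralizer (B : Set G)).relIndex (Z i)) →
    (centralizer ((⨆ i ∈ s, Z i : Subgroup G) : Set G)).relIndex A ^ 2 ≤
      (centralizer (A : Set G)).relIndex (⨆ i ∈ s, Z i) := by
  classical
  induction s using Finset.induction_on with
  | empty =>
    intro A _
    have e : (⨆ i ∈ (∅ : Finset ι), Z i) = (⊥ : Subgroup G) := by simp
    rw [e, relIndex_bot_right]
    have h1 : (centralizer ((⊥ : Subgroup G) : Set G)).relIndex A = 1 :=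
      relIndex_eq_one.2 fun x _ => mem_centralizer_iff.2 fun y hy => by
        rw [Subgroup.mem_bot.1 hy, one_mul, mul_one]
    rw [h1, one_pow]
  | @insert i s _ ih =>
    intro A hA
    rw [Finset.iSup_insert]
    set V' := ⨆ j ∈ s, Z j
    set B := A ⊓ centralizer (Z i : Set G)
    have h1 := ih B fun j hj B' hB' => hA j (Finset.mem_insert_of_mem hj) B' (hB'.trans inf_le_left)
    have h2 := hA i (Finset.mem_insert_self i s) A le_rfl
    have e1 : (centralizer ((Z i ⊔ V' : Subgroup G) : Set G)).relIndex A =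
        (centralizer (V' : Set G)).relIndex B * (centralizer (Z i : Set G)).relIndex A := by
      have hc : centralizer ((Z i ⊔ V' : Subgroup G) : Set G) =
          centralizer (Z i : Set G) ⊓ centralizer (V' : Set G) := by
        refine le_antisymm (le_inf (centralizer_le (SetLike.coe_subset_coe.2 (le_sup_left : Z i ≤ Z i ⊔ V')))
        (centralizer_le (SetLike.coe_subset_coe.2 (le_sup_right : V' ≤ Z i ⊔ V')))) ?_
        exact le_centralizer_iff.1 (sup_le (le_centralizer_iff.1 inf_le_left) (le_centralizer_iff.1 inf_le_right))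
      rw [hc, ← inf_relIndex_right (_ ⊓ _) A, ← inf_relIndex_right (centralizer (V' : Set G)) B,
        ← inf_relIndex_left A (centralizer (Z i : Set G))]
      rw [show centralizer (Z i : Set G) ⊓ centralizer (V' : Set G) ⊓ A =
        centralizer (V' : Set G) ⊓ B by simp only [B]; ac_rfl]
      exact (relIndex_mul_relIndex _ _ _ inf_le_right inf_le_left).symm
    set W := Z i ⊔ V'
    have e2 : (centralizer (A : Set G)).relIndex W =
        (centralizer (A : Set G)).relIndex (W ⊓ centralizer (B : Set G)) *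
          (centralizer (B : Set G)).relIndex W := by
      have hAB : centralizer (A : Set G) ≤ centralizer (B : Set G) := centralizer_le inf_le_left
      rw [← inf_relIndex_right _ W, ← inf_relIndex_right (centralizer (B : Set G)) W,
        ← inf_relIndex_right (centralizer (A : Set G)) (W ⊓ centralizer (B : Set G))]
      rw [show centralizer (A : Set G) ⊓ (W ⊓ centralizer (B : Set G)) = centralizer (A : Set G) ⊓ W from
        le_antisymm (inf_le_inf_left _ inf_le_left)
          (le_inf inf_le_left (le_inf inf_le_right (inf_le_left.trans hAB))),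
        inf_comm W (centralizer (B : Set G))]
      exact (relIndex_mul_relIndex _ _ _ (le_inf (inf_le_left.trans hAB) inf_le_right) inf_le_right).symm
    have hne : ∀ {H K : Subgroup G}, H.relIndex K ≠ 0 := Subgroup.index_ne_zero_of_finite
    rw [e1, e2, mul_pow, mul_comm]
    refine Nat.mul_le_mul (h2.trans (relIndex_le_of_le_right (le_inf le_sup_left ?_) hne))
      (h1.trans (relIndex_le_of_le_right le_sup_right hne))
    exact le_centralizer_iff.1 inf_le_right

/-! ### 2-locals -/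

/-- The hypothesis on the 2-locals. -/
def Hyp (G : Type u) [Group G] : Prop :=
  ∀ M : Subgroup G, Cfsg.IsTwoLocal M →
    Group.IsSolvable M ∧ Cfsg.IsOfCharacteristicTwo ↥M ∧ ¬ Cfsg.Involves (Equiv.Perm (Fin 4)) ↥M

theorem isTwoLocal_normalizer {T : Subgroup G} (hT : IsPGroup 2 T) (hne : T ≠ ⊥) :
    Cfsg.IsTwoLocal (normalizer (T : Set G)) := ⟨T, hT, hne, rfl⟩

theorem exists_maximal [Finite G] {L : Subgroup G} (hL : Cfsg.IsTwoLocal L) :
    ∃ M, Cfsg.IsMaximalTwoLocal M ∧ L ≤ M := by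
  obtain ⟨M, ⟨hM1, hM2⟩, hmax⟩ :=
    (Set.toFinite {M : Subgroup G | Cfsg.IsTwoLocal M ∧ L ≤ M}).exists_maximal ⟨L, hL, le_rfl⟩
  exact ⟨M, ⟨hM1, fun N hN hMN => le_antisymm (hmax ⟨hN, hM2.trans hMN⟩ hMN) hMN⟩, hM2⟩

theorem isTwoLocal_cj {M : Subgroup G} (h : Cfsg.IsTwoLocal M) (g : G) : Cfsg.IsTwoLocal (cj g M) := by
  obtain ⟨T, h1, h2, rfl⟩ := h
  refine ⟨cj g T, isPGroup_cj h1, fun e => h2 ?_, cj_normalizer g T⟩
  rw [← cj_inv_cj g T, e, cj, Subgroup.map_bot]

theorem isMaximalTwoLocal_cj {M : Subgroup G} (h : Cfsg.IsMaximalTwoLocal M) (g : G) :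
    Cfsg.IsMaximalTwoLocal (cj g M) := by
  refine ⟨isTwoLocal_cj h.1 g, fun N hN hle => ?_⟩
  have := h.2 _ (isTwoLocal_cj hN g⁻¹) ((cj_inv_cj g M).ge.trans (cj_mono hle))
  rw [← cj_cj_inv g N, this]

theorem Hyp.sub [Finite G] (hh : Hyp G) {L Y : Subgroup G} (hL : Cfsg.IsTwoLocal L) (hY : Y ≤ L) :
    Group.IsSolvable Y ∧ ¬ Cfsg.Involves (Equiv.Perm (Fin 4)) Y := by
  obtain ⟨h1, -, h3⟩ := hh L hL
  haveI := h1
  refine ⟨solvable_of_solvable_injective (Subgroup.inclusion_injective hY), fun h => h3 ?_⟩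
  refine PComplement.involves_of_subgroup (L := Y.subgroupOf L) ?_
  obtain ⟨K, φ, hφ⟩ := PComplement.involves_iff.1 h
  set e := (subgroupOfEquivOfLe hY).toMonoidHom
  exact PComplement.involves_iff.2 ⟨K.comap e, φ.comp (e.subgroupComap K),
    hφ.comp (e.subgroupComap_surjective_of_surjective K (subgroupOfEquivOfLe hY).surjective)⟩

/-! ### A maximal 2-local with a Sylow 2-subgroup -/

/-- `M` is a maximal 2-local and `T` a Sylow 2-subgroup of it. -/
structure Ctx (M T : Subgroup G) : Prop where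
  hM : Cfsg.IsMaximalTwoLocal M
  le : T ≤ M
  isP : IsPGroup 2 T
  maxP : ∀ R, R ≤ M → IsPGroup 2 R → T ≤ R → R = T

variable {M T : Subgroup G}

theorem exists_ctx [Finite G] (hM : Cfsg.IsMaximalTwoLocal M) {U : Subgroup G} (hU : IsPGroup 2 U)
    (hUM : U ≤ M) : ∃ T, Ctx M T ∧ U ≤ T := by
  obtain ⟨T, ⟨hT1, hT2, hT3⟩, hmax⟩ :=
    (Set.toFinite {T : Subgroup G | U ≤ T ∧ T ≤ M ∧ IsPGroup 2 T}).exists_maximal ⟨U, le_rfl, hUM, hU⟩
  exact ⟨T, ⟨hM, hT2, hT3, fun R h1 h2 h3 => le_antisymm (hmax ⟨hT1.trans h3, h1, h2⟩ h3) h3⟩, hT1⟩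

/-- The Sylow subgroup `T` of `M`. -/
noncomputable def Ctx.sylow (c : Ctx M T) : Sylow 2 M where
  toSubgroup := T.subgroupOf M
  isPGroup' := c.isP.of_equiv (subgroupOfEquivOfLe c.le).symm
  is_maximal' := fun {Q} hQ hle => by
    have := c.maxP (Q.map M.subtype) (map_subtype_le _) (hQ.map _)
      ((map_subgroupOf_eq_of_le c.le).ge.trans (map_mono hle))
    rw [← Subgroup.comap_map_eq_self_of_injective M.subtype_injective Q, this]
    rfl

theorem Ctx.coe_sylow (c : Ctx M T) : (c.sylow : Subgroup M) = T.subgroupOf M := rfl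

/-- `⟨Ω₁(Z(T))^M⟩`. -/
def zclos (M T : Subgroup G) : Subgroup G := clos M (zc T)

variable [Finite G]

theorem Ctx.opIn_le_sylow (c : Ctx M T) : opIn 2 M ≤ T :=
  (map_mono (PCore.pCore_le_sylow c.sylow)).trans (map_subgroupOf_eq_of_le c.le).le

theorem Ctx.ne_bot (c : Ctx M T) : T ≠ ⊥ := by
  obtain ⟨U, hU, hUne, hUM⟩ := c.hM.1
  obtain ⟨R, hR⟩ := c.sylow.2.exists_le_sylow
  intro e
  have hle : U ≤ M := hUM ▸ le_normalizer
  exact hUne (le_bot_iff.1 ((le_opIn hle (by rw [hUM]) hU).trans (c.opIn_le_sylow.trans e.le)))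

theorem Ctx.cent (hh : Hyp G) (c : Ctx M T) : M ⊓ centralizer (opIn 2 M : Set G) ≤ opIn 2 M :=
  inf_centralizer_opIn_le (hh M c.hM.1).2.1

theorem Ctx.opIn_ne_bot (hh : Hyp G) (c : Ctx M T) : opIn 2 M ≠ ⊥ := fun e => by
  refine c.ne_bot (le_bot_iff.1 ((le_trans (le_inf c.le fun x _ => ?_) (c.cent hh)).trans e.le))
  rw [e]
  exact mem_centralizer_iff.2 fun y hy => by rw [Subgroup.mem_bot.1 hy, one_mul, mul_one]

theorem Ctx.normalizer_eq (c : Ctx M T) {X : Subgroup G} (hX : IsPGroup 2 X) (hne : X ≠ ⊥)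
    (hn : M ≤ normalizer (X : Set G)) : normalizer (X : Set G) = M :=
  c.hM.2 _ (isTwoLocal_normalizer hX hne) hn

theorem normalizer_maximal_le (hh : Hyp G) (hM : Cfsg.IsMaximalTwoLocal M) :
    normalizer (M : Set G) ≤ M := by
  obtain ⟨T, c, -⟩ := exists_ctx hM (IsPGroup.of_bot (G := G) (p := 2)) bot_le
  exact (normalizer_le_normalizer_opIn M).trans
    (c.normalizer_eq (isPGroup_opIn M) (c.opIn_ne_bot hh) (le_normalizer_opIn M)).le

theorem Ctx.zc_le_opIn (hh : Hyp G) (c : Ctx M T) : zc T ≤ opIn 2 M := fun _ hx =>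
  c.cent hh ⟨c.le (zc_le T hx), centralizer_le c.opIn_le_sylow (zc_le_centralizer T hx)⟩

theorem Ctx.zc_le_zc (hh : Hyp G) (c : Ctx M T) : zc T ≤ zc (opIn 2 M) := fun _ hx =>
  mem_zc.2 ⟨⟨c.zc_le_opIn hh hx, centralizer_le c.opIn_le_sylow (zc_le_centralizer T hx)⟩, EA_zc T _ hx⟩

theorem Ctx.zclos_le_zc (hh : Hyp G) (c : Ctx M T) : zclos M T ≤ zc (opIn 2 M) :=
  clos_le (c.zc_le_zc hh) ((le_normalizer_opIn M).trans (normalizer_le_normalizer_zc _))

theorem Ctx.EA_zclos (hh : Hyp G) (c : Ctx M T) : EA (zclos M T) := (EA_zc _).mono (c.zclos_le_zc hh)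

theorem Ctx.zclos_le (hh : Hyp G) (c : Ctx M T) : zclos M T ≤ T :=
  (c.zclos_le_zc hh).trans ((zc_le _).trans c.opIn_le_sylow)

theorem Ctx.normalizer_zclos (hh : Hyp G) (c : Ctx M T) :
    normalizer (zclos M T : Set G) = M :=
  c.normalizer_eq (c.EA_zclos hh).isPGroup
    (ne_bot_of_le_ne_bot (zc_ne_bot c.isP c.ne_bot) (le_clos _ _)) (le_normalizer_clos _ _)

theorem Ctx.centralizer_zclos_le (hh : Hyp G) (c : Ctx M T) :
    centralizer (zclos M T : Set G) ≤ M :=
  (centralizer_le_normalizer _).trans (c.normalizer_zclos hh).le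

/-- A normal subgroup of `M` which is a 2-group modulo `C(Z)` centralises `Z`. -/
theorem Ctx.le_centralizer_of_pow (hh : Hyp G) (c : Ctx M T) {L : Subgroup G} (hL : L ≤ M)
    (hn : M ≤ normalizer (L : Set G)) (hCL : centralizer (zclos M T : Set G) ≤ L)
    (hpow : ∀ x ∈ L, ∃ k : ℕ, x ^ 2 ^ k ∈ centralizer (zclos M T : Set G)) :
    L ≤ centralizer (zclos M T : Set G) := by
  haveI : Fact (Nat.Prime 2) := ⟨Nat.prime_two⟩
  set C := centralizer (zclos M T : Set G)
  haveI : (L.subgroupOf M).Normal := normal_subgroupOf_of_le_normalizer hn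
  haveI : (C.subgroupOf M).Normal := normal_subgroupOf_of_le_normalizer
    (PuigPair.le_normalizer_centralizer (le_normalizer_clos _ _))
  have hCL' : C.subgroupOf M ≤ L.subgroupOf M := fun x hx => hCL hx
  have hKp : IsPGroup 2 ((L.subgroupOf M).map (QuotientGroup.mk' (C.subgroupOf M))) := by
    rintro ⟨_, ⟨x, hx, rfl⟩⟩
    obtain ⟨k, hk⟩ := hpow _ hx
    refine ⟨k, Subtype.ext ?_⟩
    rw [SubgroupClass.coe_pow, ← map_pow]
    exact (QuotientGroup.eq_one_iff _).2 (by rw [mem_subgroupOf]; simpa using hk)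
  have hsup := Replacement.sylow_inf_sup_eq c.sylow hCL' hKp
  have hLz : L ≤ centralizer (zc T : Set G) := by
    intro x hx
    have hx' : (⟨x, hL hx⟩ : M) ∈ L.subgroupOf M := hx
    rw [← hsup] at hx'
    have hle : (c.sylow : Subgroup M) ⊓ L.subgroupOf M ⊔ C.subgroupOf M ≤
        (centralizer (zc T : Set G)).subgroupOf M :=
      sup_le (fun y hy => le_centralizer_zc T hy.1) (fun y hy => centralizer_le (le_clos _ _) hy)
    exact hle hx'
  rw [le_centralizer_iff]
  exact clos_le (le_centralizer_iff.1 hLz) (PuigPair.le_normalizer_centralizer hn)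

theorem fixSec_bot {V A : Subgroup G} : fixSec ⊥ V A = V ⊓ centralizer (A : Set G) := by
  ext v
  rw [mem_fixSec, Subgroup.mem_inf, mem_centralizer_iff]
  refine and_congr ⟨And.left, fun h => ⟨h, by rw [normalizer_eq_top]; exact mem_top v⟩⟩
    (forall₂_congr fun a _ => ?_)
  rw [Subgroup.mem_bot, mul_inv_eq_one, mul_inv_eq_iff_eq_mul]

theorem secC_bot {V : Subgroup G} {x : G} (hx : x ∈ normalizer (V : Set G)) :
    x ∈ secC ⊥ V ↔ x ∈ centralizer (V : Set G) := by
  rw [mem_secC, mem_centralizer_iff]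
  constructor
  · intro h v hv
    have := Subgroup.mem_bot.1 (h.2 v hv)
    rw [mul_inv_eq_one, mul_inv_eq_iff_eq_mul] at this
    exact this.symm
  · intro h
    refine ⟨⟨by rw [normalizer_eq_top]; exact mem_top x, hx⟩, fun v hv => Subgroup.mem_bot.2 ?_⟩
    rw [mul_inv_eq_one, mul_inv_eq_iff_eq_mul]
    exact (h v hv).symm

/-- The square bound on `Z = ⟨Ω₁(Z(T))^M⟩`. -/
theorem Ctx.bound (hh : Hyp G) (c : Ctx M T) {A : Subgroup G} (hA : A ≤ M)
    (hsq : ∀ a ∈ A, a * a ∈ centralizer (zclos M T : Set G)) :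
    (centralizer (zclos M T : Set G)).relIndex A ^ 2 ≤ (centralizer (A : Set G)).relIndex (zclos M T) := by
  set Z := zclos M T
  have hn : M ≤ normalizer (Z : Set G) := le_normalizer_clos _ _
  have h := section_bound (Y := M) (U := ⊥) (V := Z) (A := A) (hh M c.hM.1).1 (hh M c.hM.1).2.2 bot_le
    ((c.zclos_le hh).trans c.le) (by rw [normalizer_eq_top]; exact le_top) hn
    (fun v hv => Subgroup.mem_bot.2 (c.EA_zclos hh v hv))
    (fun L hL hLn hCL hpow x hx => by
      refine (secC_bot (hn (hL hx))).2 (c.le_centralizer_of_pow hh hL hLn (fun y hy => ?_) (fun y hy => ?_) hx)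
      · exact hCL ⟨c.centralizer_zclos_le hh hy, (secC_bot (hn (c.centralizer_zclos_le hh hy))).2 hy⟩
      · obtain ⟨k, hk⟩ := hpow y hy
        exact ⟨k, (secC_bot (hn (pow_mem (hL hy) _))).1 hk⟩)
    hA (fun a ha => (secC_bot (hn (mul_mem (hA ha) (hA ha)))).2 (hsq a ha))
  rwa [fixSec_bot, inf_comm Z, inf_relIndex_right, relIndex_congr (fun x hx => secC_bot (hn (hA hx)))] at h

/-- No failure of factorization: `J(T)` centralises `Z`. -/
theorem Ctx.maxEA_le (hh : Hyp G) (c : Ctx M T) {A : Subgroup G} (hA : MaxEA T A) :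
    A ≤ centralizer (zclos M T : Set G) := by
  set Z := zclos M T
  have hn : M ≤ normalizer (Z : Set G) := le_normalizer_clos _ _
  have h1 := c.bound hh (A := A) (hA.1.trans c.le) fun a ha => by rw [hA.2.1 a ha]; exact one_mem _
  have h2 := hA.index_le (c.zclos_le hh) (c.EA_zclos hh) ((hA.1.trans c.le).trans hn)
  rw [← relIndex_eq_one]
  have h3 : 0 < (centralizer (Z : Set G)).relIndex A := Nat.pos_of_ne_zero Subgroup.index_ne_zero_of_finite
  nlinarith [h1.trans h2]

theorem Ctx.jEA_le_centralizer (hh : Hyp G) (c : Ctx M T) : jEA T ≤ centralizer (zclos M T : Set G) :=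
  sSup_le fun _ hA => c.maxEA_le hh hA

/-- The subgroup `N_M(C_T(Z))`. -/
def para (M T : Subgroup G) : Subgroup G :=
  M ⊓ normalizer ((T ⊓ centralizer (zclos M T : Set G) : Subgroup G) : Set G)

theorem Ctx.para_le_normalizer_jEA (hh : Hyp G) (c : Ctx M T) : para M T ≤ normalizer (jEA T : Set G) := by
  refine inf_le_right.trans ((normalizer_le_normalizer_jEA _).trans (le_of_eq ?_))
  rw [jEA_eq_of_le (le_inf (jEA_le T) (c.jEA_le_centralizer hh)) inf_le_left]

/-- Frattini: `M = C_M(Z) N_M(C_T(Z))`. -/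
theorem Ctx.le_sup_para (hh : Hyp G) (c : Ctx M T) :
    M ≤ centralizer (zclos M T : Set G) ⊔ para M T := by
  haveI : Fact (Nat.Prime 2) := ⟨Nat.prime_two⟩
  set C := centralizer (zclos M T : Set G)
  haveI : (C.subgroupOf M).Normal := normal_subgroupOf_of_le_normalizer
    (PuigPair.le_normalizer_centralizer (le_normalizer_clos _ _))
  obtain ⟨R, hR⟩ := SylowCount.exists_sylow_inf c.sylow (C.subgroupOf M)
  have hfr := Sylow.normalizer_sup_eq_top R
  rw [hR, subgroupOf_map_subtype] at hfr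
  intro x hx
  have hx' : (⟨x, hx⟩ : M) ∈ (⊤ : Subgroup M) := mem_top _
  rw [← hfr] at hx'
  have hle : normalizer (((c.sylow : Subgroup M) ⊓ C.subgroupOf M : Subgroup M) : Set M) ⊔ C.subgroupOf M ≤
      (C ⊔ para M T).subgroupOf M := by
    refine sup_le (fun y hy => mem_sup_right ⟨y.2, ?_⟩) (fun y hy => mem_sup_left hy)
    refine Subgroup.mem_normalizer_iff.2 fun w => ?_
    constructor
    · rintro ⟨hw1, hw2⟩
      exact (Subgroup.mem_normalizer_iff.1 hy ⟨w, c.le hw1⟩).1 ⟨hw1, hw2⟩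
    · rintro ⟨hw1, hw2⟩
      have hwM : w ∈ M := by
        have := mul_mem (mul_mem (inv_mem y.2) (c.le hw1)) y.2
        simpa [mul_assoc] using this
      exact (Subgroup.mem_normalizer_iff.1 hy ⟨w, hwM⟩).2 ⟨hw1, hw2⟩
  exact hle hx'

/-- `Z` is generated by the conjugates under `N_M(C_T(Z))`. -/
theorem Ctx.zclos_le_of_para (hh : Hyp G) (c : Ctx M T) {X : Subgroup G} (hX : zc T ≤ X)
    (hn : para M T ≤ normalizer (X : Set G)) : zclos M T ≤ X := by
  refine le_trans ?_ (clos_le hX hn)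
  set W := clos (para M T) (zc T)
  refine clos_le (le_clos _ _) ((c.le_sup_para hh).trans (sup_le ?_ (le_normalizer_clos _ _)))
  refine le_trans (centralizer_le ?_) (centralizer_le_normalizer _)
  exact clos_le (le_clos M (zc T)) (inf_le_left.trans (le_normalizer_clos M (zc T)))

/-- Two conjugates of `Z`, each normalising the other, commute. -/
theorem Ctx.commute_cj (hh : Hyp G) (c : Ctx M T) {g : G} (h1 : cj g (zclos M T) ≤ M)
    (h2 : zclos M T ≤ cj g M) : cj g (zclos M T) ≤ centralizer (zclos M T : Set G) := by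
  set Z := zclos M T
  have hZ := c.EA_zclos hh
  have b1 := c.bound hh h1 fun a ha => by rw [hZ.cj g a ha]; exact one_mem _
  have b2 := c.bound hh (A := cj g⁻¹ Z) ((cj_mono h2).trans (cj_inv_cj g M).le)
    fun a ha => by rw [hZ.cj _ a ha]; exact one_mem _
  rw [← relIndex_cj g (centralizer (Z : Set G)), ← relIndex_cj g (centralizer (cj g⁻¹ Z : Set G)),
    cj_centralizer, cj_centralizer, cj_cj_inv] at b2
  rw [← relIndex_eq_one]
  set s := (centralizer (Z : Set G)).relIndex (cj g Z)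
  set r := (centralizer (cj g Z : Set G)).relIndex Z
  have hs : 0 < s := Nat.pos_of_ne_zero Subgroup.index_ne_zero_of_finite
  by_contra h
  have h2' : 2 ≤ s := by omega
  have h4 : s ^ 4 ≤ s := by
    calc s ^ 4 = (s ^ 2) ^ 2 := by ring
      _ ≤ r ^ 2 := Nat.pow_le_pow_left b1 2
      _ ≤ s := b2
  have : s ^ 2 ≤ s ^ 4 := Nat.pow_le_pow_right hs (by omega)
  nlinarith

end Cfsg.Agent.TwoLocalFree
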