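import Cfsg.Agent.Lib.TwoLocalFree.Basic

set_option autoImplicit false

/-! The key step: `C(Ω₁(Z(S)))` lies in the maximal 2-local containing `N(J(S))`. -/

namespace Cfsg.Agent.TwoLocalFree

open Subgroup PuigPair

universe u

variable {G : Type u} [Group G] [Finite G]

/-- Two elements centralising `U` and `V/U` commute modulo `C(V)`. -/
theorem commutator_mem_centralizer {U V : Subgroup G} (hV : EA V) (hUV : U ≤ V) {l m : G}
    (hl : l ∈ secC U V ⊓ centralizer (U : Set G)) (hm : m ∈ secC U V ⊓ centralizer (U : Set G)) :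
    l * m * l⁻¹ * m⁻¹ ∈ centralizer (V : Set G) := by
  have key : ∀ v ∈ V, l * m * v * (l * m)⁻¹ = m * l * v * (m * l)⁻¹ := by
    intro v hv
    set α := l * v * l⁻¹ * v⁻¹
    set β := m * v * m⁻¹ * v⁻¹
    have hα : α ∈ U := (mem_secC.1 hl.1).2 v hv
    have hβ : β ∈ U := (mem_secC.1 hm.1).2 v hv
    have h1 : l * β = β * l := (mem_centralizer_iff.1 hl.2 β hβ).symm
    have h2 : m * α = α * m := (mem_centralizer_iff.1 hm.2 α hα).symm
    calc l * m * v * (l * m)⁻¹ = (l * β) * v * l⁻¹ := by simp only [α, β]; group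
      _ = (β * l) * v * l⁻¹ := by rw [h1]
      _ = β * α * v := by simp only [α, β]; group
      _ = α * β * v := by rw [hV.comm (hUV hβ) (hUV hα)]
      _ = (α * m) * v * m⁻¹ := by simp only [α, β]; group
      _ = (m * α) * v * m⁻¹ := by rw [h2]
      _ = m * l * v * (m * l)⁻¹ := by simp only [α, β]; group
  refine mem_centralizer_iff.2 fun v hv => ?_
  have hN : (m * l)⁻¹ ∈ normalizer (V : Set G) :=
    inv_mem (mul_mem (mem_secC.1 hm.1).1.2 (mem_secC.1 hl.1).1.2)
  have hv' : (m * l)⁻¹ * v * (m * l)⁻¹⁻¹ ∈ V := (Subgroup.mem_normalizer_iff.1 hN v).1 hv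
  have h := key _ hv'
  calc v * (l * m * l⁻¹ * m⁻¹)
      = m * l * ((m * l)⁻¹ * v * (m * l)⁻¹⁻¹) * (m * l)⁻¹ * (l * m * l⁻¹ * m⁻¹) := by group
    _ = l * m * ((m * l)⁻¹ * v * (m * l)⁻¹⁻¹) * (l * m)⁻¹ * (l * m * l⁻¹ * m⁻¹) := by rw [h]
    _ = l * m * l⁻¹ * m⁻¹ * v := by group

theorem sq_mem_centralizer {U V : Subgroup G} (hV : EA V) (hUV : U ≤ V) {l : G}
    (hl : l ∈ secC U V ⊓ centralizer (U : Set G)) : l * l ∈ centralizer (V : Set G) := by
  refine mem_centralizer_iff.2 fun v hv => ?_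
  have hα : l * v * l⁻¹ * v⁻¹ ∈ U := (mem_secC.1 hl.1).2 v hv
  set α := l * v * l⁻¹ * v⁻¹
  have h1 : l * α = α * l := (mem_centralizer_iff.1 hl.2 α hα).symm
  refine (mul_inv_eq_iff_eq_mul.1 ?_).symm
  calc l * l * v * (l * l)⁻¹ = (l * α) * v * l⁻¹ := by simp only [α]; group
    _ = (α * l) * v * l⁻¹ := by rw [h1]
    _ = α * α * v := by simp only [α]; group
    _ = v := by rw [hV α (hUV hα), one_mul]

theorem Ctx.bound_cj (hh : Hyp G) {M T : Subgroup G} (c : Ctx M T) {g : G} {B : Subgroup G}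
    (hB : B ≤ cj g M) (hsq : ∀ b ∈ B, b * b ∈ centralizer (cj g (zclos M T) : Set G)) :
    (centralizer (cj g (zclos M T) : Set G)).relIndex B ^ 2 ≤
      (centralizer (B : Set G)).relIndex (cj g (zclos M T)) := by
  have h := c.bound hh (A := cj g⁻¹ B) ((cj_mono hB).trans (cj_inv_cj g M).le) (by
    rintro _ ⟨b, hb, rfl⟩
    rw [← map_mul, ← cj_inv_cj g (centralizer (zclos M T : Set G)), cj_centralizer]
    exact mem_map_of_mem _ (hsq b hb))
  rwa [← relIndex_cj g (centralizer (zclos M T : Set G)),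
    ← relIndex_cj g (centralizer (cj g⁻¹ B : Set G)), cj_centralizer, cj_centralizer, cj_cj_inv] at h

/-- The setting of the key step. -/
structure Key (M S Y : Subgroup G) : Prop where
  hh : Hyp G
  ctx : Ctx M S
  maxS : ∀ R : Subgroup G, IsPGroup 2 R → S ≤ R → R = S
  hJ : normalizer (jEA S : Set G) ≤ M
  hSY : S ≤ Y
  hYC : Y ≤ centralizer (zc S : Set G)
  hYM : ¬ Y ≤ M
  minY : ∀ Y' : Subgroup G, S ≤ Y' → Y' ≤ Y → ¬ Y' ≤ M → Y' = Y

variable {M S Y : Subgroup G}

theorem Key.local_zc (k : Key M S Y) : Cfsg.IsTwoLocal (normalizer (zc S : Set G)) :=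
  isTwoLocal_normalizer (EA_zc S).isPGroup (zc_ne_bot k.ctx.isP k.ctx.ne_bot)

theorem Key.le_local (k : Key M S Y) : Y ≤ normalizer (zc S : Set G) :=
  k.hYC.trans (centralizer_le_normalizer _)

theorem Key.solvable (k : Key M S Y) : Group.IsSolvable Y := (k.hh.sub k.local_zc k.le_local).1

theorem Key.free (k : Key M S Y) : ¬ Cfsg.Involves (Equiv.Perm (Fin 4)) Y :=
  (k.hh.sub k.local_zc k.le_local).2

theorem Key.opIn_le_S (k : Key M S Y) {L : Subgroup G} (hSL : S ≤ L) : opIn 2 L ≤ S := by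
  have h : IsPGroup 2 (S ⊔ opIn 2 L : Subgroup G) :=
    k.ctx.isP.to_sup_of_normal_right' (isPGroup_opIn L) (hSL.trans (le_normalizer_opIn L))
  exact le_sup_right.trans (k.maxS _ h le_sup_left).le

theorem Key.cent (k : Key M S Y) : Y ⊓ centralizer (opIn 2 Y : Set G) ≤ opIn 2 Y := by
  set L := normalizer (zc S : Set G)
  have hOS : opIn 2 L ≤ S := k.opIn_le_S (k.hSY.trans k.le_local)
  have hOQ : opIn 2 L ≤ opIn 2 Y :=
    le_opIn (hOS.trans k.hSY) (k.le_local.trans (le_normalizer_opIn L)) (isPGroup_opIn L)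
  refine le_trans (le_trans (inf_le_inf k.le_local (centralizer_le hOQ)) ?_) hOQ
  exact inf_centralizer_opIn_le (k.hh L k.local_zc).2.1

/-- The Sylow subgroup of `Y`. -/
noncomputable def Key.sylow (k : Key M S Y) : Sylow 2 Y where
  toSubgroup := S.subgroupOf Y
  isPGroup' := k.ctx.isP.of_equiv (subgroupOfEquivOfLe k.hSY).symm
  is_maximal' := fun {Q} hQ hle => by
    have := k.maxS (Q.map Y.subtype) (hQ.map _)
      ((map_subgroupOf_eq_of_le k.hSY).ge.trans (map_mono hle))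
    rw [← Subgroup.comap_map_eq_self_of_injective Y.subtype_injective Q, this]
    rfl

/-- A normal subgroup of `Y` with a Sylow subgroup outside `O₂(Y)` supplements `S`. -/
theorem Key.le_sup_of_not_le (k : Key M S Y) {K : Subgroup G} (hK : K ≤ Y)
    (hn : Y ≤ normalizer (K : Set G)) (hS : ¬ K ⊓ S ≤ opIn 2 Y) : Y ≤ K ⊔ S := by
  haveI : Fact (Nat.Prime 2) := ⟨Nat.prime_two⟩
  haveI : (K.subgroupOf Y).Normal := normal_subgroupOf_of_le_normalizer hn
  obtain ⟨R, hR⟩ := SylowCount.exists_sylow_inf k.sylow (K.subgroupOf Y)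
  have hfr := Sylow.normalizer_sup_eq_top R
  rw [hR, subgroupOf_map_subtype] at hfr
  set N := Y ⊓ normalizer ((K ⊓ S : Subgroup G) : Set G)
  have hYle : Y ≤ K ⊔ N := by
    intro x hx
    have hx' : (⟨x, hx⟩ : Y) ∈ (⊤ : Subgroup Y) := mem_top _
    rw [← hfr] at hx'
    have hle : normalizer (((k.sylow : Subgroup Y) ⊓ K.subgroupOf Y : Subgroup Y) : Set Y) ⊔ K.subgroupOf Y ≤
        (K ⊔ N).subgroupOf Y := by
      refine sup_le (fun y hy => mem_sup_right ⟨y.2, ?_⟩) (fun y hy => mem_sup_left hy)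
      refine Subgroup.mem_normalizer_iff.2 fun w => ?_
      constructor
      · rintro ⟨hw1, hw2⟩
        exact ((Subgroup.mem_normalizer_iff.1 hy ⟨w, hK hw1⟩).1 ⟨hw2, hw1⟩).symm
      · rintro ⟨hw1, hw2⟩
        have hwY : w ∈ Y := by
          have := mul_mem (mul_mem (inv_mem y.2) (hK hw1)) y.2
          simpa [mul_assoc] using this
        exact ((Subgroup.mem_normalizer_iff.1 hy ⟨w, hwY⟩).2 ⟨hw2, hw1⟩).symm
    exact hle hx'
  have hNM : N ≤ M := by
    by_contra hcon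
    have := k.minY N (le_inf k.hSY (PuigPair.le_normalizer_inf (k.hSY.trans hn) le_normalizer))
      inf_le_left hcon
    exact hS (le_opIn (inf_le_left.trans hK) (inf_eq_left.1 this) (k.ctx.isP.to_le inf_le_right))
  have hKM : ¬ K ≤ M := fun h => k.hYM (hYle.trans (sup_le h hNM))
  exact (k.minY (K ⊔ S) le_sup_right (sup_le hK k.hSY) fun h => hKM (le_sup_left.trans h)).ge

/-- Elements of odd order lie in such a subgroup. -/
theorem Key.odd_mem (k : Key M S Y) {K : Subgroup G} (hK : K ≤ Y)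
    (hn : Y ≤ normalizer (K : Set G)) (hS : ¬ K ⊓ S ≤ opIn 2 Y) {x : G} (hx : x ∈ Y)
    (hodd : Odd (orderOf x)) : x ∈ K := by
  have hxKS := k.le_sup_of_not_le hK hn hS hx
  obtain ⟨s, hs, t, ht, hst⟩ :=
    (Coprime.mem_sup_iff_of_le_normalizer (k.hSY.trans hn)).1 (sup_comm K S ▸ hxKS)
  haveI : (K.subgroupOf Y).Normal := normal_subgroupOf_of_le_normalizer hn
  set π := QuotientGroup.mk' (K.subgroupOf Y)
  have h1 : π ⟨x, hx⟩ = π ⟨s, k.hSY hs⟩ := by
    rw [show (⟨x, hx⟩ : Y) = ⟨s, k.hSY hs⟩ * ⟨t, hK ht⟩ from Subtype.ext hst.symm, map_mul,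
      show π ⟨t, hK ht⟩ = 1 from (QuotientGroup.eq_one_iff _).2 ht, mul_one]
  obtain ⟨j, hj⟩ := k.ctx.isP ⟨s, hs⟩
  have h2 : orderOf (π ⟨x, hx⟩) ∣ 2 ^ j := by
    rw [h1]
    exact (orderOf_map_dvd _ _).trans ((dvd_of_eq (Subgroup.orderOf_mk _ _)).trans
      (orderOf_dvd_of_pow_eq_one (congrArg Subtype.val hj)))
  have h3 : orderOf (π ⟨x, hx⟩) ∣ orderOf x :=
    (orderOf_map_dvd _ _).trans (dvd_of_eq (Subgroup.orderOf_mk _ _))
  have := Nat.eq_one_of_dvd_coprimes ((Nat.coprime_two_left.2 hodd).pow_left j) h2 h3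
  exact (QuotientGroup.eq_one_iff (N := K.subgroupOf Y) ⟨x, hx⟩).1 (orderOf_eq_one_iff.1 this)

/-- The subgroup generated by the elements of odd order of `Y`. -/
def oddGen (Y : Subgroup G) : Subgroup G := closure {x | x ∈ Y ∧ Odd (orderOf x)}

omit [Finite G] in
theorem oddGen_le (Y : Subgroup G) : oddGen Y ≤ Y := (closure_le Y).2 fun _ h => h.1

omit [Finite G] in
theorem le_normalizer_oddGen (Y : Subgroup G) : Y ≤ normalizer (oddGen Y : Set G) := by
  refine le_normalizer_of_cj fun g hg => ?_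
  rw [cj, map_le_iff_le_comap, oddGen, closure_le]
  rintro x ⟨hx, hxo⟩
  refine subset_closure ⟨mul_mem (mul_mem hg hx) (inv_mem hg), ?_⟩
  show Odd (orderOf (MulAut.conj g x))
  rwa [MulEquiv.orderOf_eq]

/-- Every element has an odd power which is a power of two away from it. -/
theorem exists_odd_pow (x : G) : ∃ k : ℕ, Odd (orderOf (x ^ 2 ^ k)) := by
  obtain ⟨k, m, hm, he⟩ := Nat.exists_eq_pow_mul_and_not_dvd (orderOf_pos x).ne' 2 (by norm_num)
  refine ⟨k, (Nat.not_even_iff_odd.1 fun h => hm h.two_dvd).of_dvd_nat (orderOf_dvd_of_pow_eq_one ?_)⟩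
  rw [← pow_mul, ← he, pow_orderOf_eq_one]

/-- An odd power of `x` generates it. -/
theorem mem_of_pow_two_mem {K : Subgroup G} {x : G} (hx : Odd (orderOf x)) {k : ℕ} (h : x ^ 2 ^ k ∈ K) :
    x ∈ K := by
  obtain ⟨j, hj⟩ := exists_pow_eq_self_of_coprime (x := x) (n := 2 ^ k)
    ((Nat.coprime_two_left.2 hx).pow_left k)
  rw [← hj]
  exact pow_mem h j

theorem Key.le_oddGen_sup (k : Key M S Y) : Y ≤ oddGen Y ⊔ S := by
  haveI : Fact (Nat.Prime 2) := ⟨Nat.prime_two⟩
  set N := oddGen Y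
  haveI : (N.subgroupOf Y).Normal := normal_subgroupOf_of_le_normalizer (le_normalizer_oddGen Y)
  have hp : IsPGroup 2 ((⊤ : Subgroup Y).map (QuotientGroup.mk' (N.subgroupOf Y))) := by
    rintro ⟨_, ⟨x, -, rfl⟩⟩
    obtain ⟨j, hj⟩ := exists_odd_pow (x : G)
    refine ⟨j, Subtype.ext ?_⟩
    rw [SubgroupClass.coe_pow, ← map_pow]
    refine (QuotientGroup.eq_one_iff _).2 ?_
    rw [mem_subgroupOf]
    exact subset_closure ⟨SetLike.coe_mem _, by simpa using hj⟩
  have h := Replacement.sylow_inf_sup_eq k.sylow le_top hp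
  intro x hx
  have hx' : (⟨x, hx⟩ : Y) ∈ (⊤ : Subgroup Y) := mem_top _
  rw [← h] at hx'
  have hle : (k.sylow : Subgroup Y) ⊓ ⊤ ⊔ N.subgroupOf Y ≤ (N ⊔ S).subgroupOf Y :=
    sup_le (fun y hy => mem_sup_right hy.1) (fun y hy => mem_sup_left hy)
  exact hle hx'

/-- Coprime action: odd elements centralising `U` and `V/U` centralise `V`. -/
theorem mem_centralizer_of_secC {U V : Subgroup G} (hV : IsPGroup 2 V) (hUV : U ≤ V) {x : G}
    (hx : Odd (orderOf x)) (h1 : x ∈ secC U V) (h2 : x ∈ centralizer (U : Set G)) :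
    x ∈ centralizer (V : Set G) := by
  refine mem_centralizer_iff.2 fun v hv => ?_
  have hz : x * v * x⁻¹ * v⁻¹ ∈ U := (mem_secC.1 h1).2 v hv
  obtain ⟨k, hk⟩ := hV ⟨_, hUV hz⟩
  exact (Coprime.commute_of_translate (a := x) (h := v) (z := x * v * x⁻¹ * v⁻¹) (by group)
    (mem_centralizer_iff.1 h2 _ hz).symm
    (((Nat.coprime_two_right.2 hx).pow_right k).coprime_dvd_right
      (orderOf_dvd_of_pow_eq_one (congrArg Subtype.val hk)))).eq.symm

/-- First case: `⟨Ω₁(Z(S))^M⟩` lies in `O₂(Y)`. -/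
theorem Key.zclos_le_opIn (k : Key M S Y) : zclos M S ≤ opIn 2 Y := by
  haveI : Fact (Nat.Prime 2) := ⟨Nat.prime_two⟩
  by_contra hcon
  set Z := zclos M S
  set Q := opIn 2 Y
  have hZ : EA Z := k.ctx.EA_zclos k.hh
  have hZY : Z ≤ Y := (k.ctx.zclos_le k.hh).trans k.hSY
  haveI := k.solvable
  -- a regular element of the odd Fitting subgroup of `Y/O₂(Y)`
  haveI : (pCore 2 Y).Normal := PCore.pCore_normal
  set π := QuotientGroup.mk' (pCore 2 Y)
  have hsurj : Function.Surjective π := QuotientGroup.mk'_surjective _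
  haveI : Group.IsSolvable (Y ⧸ pCore 2 Y) := solvable_of_surjective hsurj
  have hQ : ∀ y : Y, π y = 1 ↔ (y : G) ∈ Q := fun y =>
    (QuotientGroup.eq_one_iff y).trans ⟨fun h => ⟨y, h, rfl⟩, fun ⟨w, hw, e⟩ => Subtype.ext e ▸ hw⟩
  set F := fittingSubgroup (Y ⧸ pCore 2 Y)
  have hodd1 : ∀ a : Y ⧸ pCore 2 Y, a * a = 1 → a ∈ F → a = 1 := by
    intro a ha haF
    have := Subnormal.mem_pCore_of_mem_fittingSubgroup (p := 2) (k := 1) haF
      (by rw [pow_one, pow_two]; exact ha)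
    rwa [PCore.pCore_quotient_self_eq_bot, Subgroup.mem_bot] at this
  have hFodd : Odd (Nat.card F) := by
    rw [← Nat.not_even_iff_odd]
    intro he
    obtain ⟨a, ha⟩ := exists_prime_orderOf_dvd_card' (G := F) 2 he.two_dvd
    have e := pow_orderOf_eq_one a
    rw [ha, pow_two] at e
    have h1 : (a : Y ⧸ pCore 2 Y) * a = 1 := congrArg Subtype.val e
    have := hodd1 a h1 a.2
    rw [OneMemClass.coe_eq_one] at this
    rw [this, orderOf_one] at ha
    omega
  haveI hFn : F.Normal := Subgroup.sSup_normal _ fun _ h => h.1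
  have hZb : ∀ x ∈ (Z.subgroupOf Y).map π, x * x = 1 := by
    rintro _ ⟨z, hz, rfl⟩
    rw [← map_mul, show z * z = 1 from Subtype.ext (hZ _ hz), map_one]
  obtain ⟨c, hcF, hc⟩ := exists_regular hFodd ((Z.subgroupOf Y).map π) hZb
    (by rw [normalizer_eq_top]; exact le_top) (fun a ha h => hodd1 a (hZb a ha)
      (Components.centralizer_fittingSubgroup_le (mem_centralizer_iff.2 fun f hf => (h f hf).symm)))
  obtain ⟨g, rfl⟩ := hsurj c
  set Z' := cj (g : G) Z
  set B := Z ⊓ Q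
  set B' := cj (g : G) B
  set W := B ⊔ B'
  set I := B ⊓ B'
  have hQS : Q ≤ S := k.opIn_le_S k.hSY
  have hYQ : Y ≤ normalizer (Q : Set G) := le_normalizer_opIn Y
  have hgQ : cj (g : G) Q = Q := cj_eq_self (hYQ g.2)
  have hQZ : Q ≤ normalizer (Z : Set G) := (hQS.trans k.ctx.le).trans (le_normalizer_clos _ _)
  have hQZ' : Q ≤ normalizer (Z' : Set G) := by
    rw [show Z' = cj (g : G) Z from rfl, ← cj_normalizer, ← hgQ]
    exact cj_mono hQZ
  have hB'eq : B' = Z' ⊓ Q := by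
    refine (Subgroup.map_inf _ _ _ (MulAut.conj (g : G)).injective).trans ?_
    rw [show Q.map (MulAut.conj (g : G)).toMonoidHom = Q from hgQ]
    rfl
  have hB'Q : B' ≤ Q := hB'eq.le.trans inf_le_right
  have hB'Z : B' ≤ Z' := hB'eq.le.trans inf_le_left
  have hWQ : W ≤ Q := sup_le inf_le_right hB'Q
  have hZ' : EA Z' := hZ.cj _
  have hQB : Q ≤ normalizer (B : Set G) := PuigPair.le_normalizer_inf hQZ le_normalizer
  have hQB' : Q ≤ normalizer (B' : Set G) := by
    rw [hB'eq]; exact PuigPair.le_normalizer_inf hQZ' le_normalizer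
  have hQW : Q ≤ normalizer (W : Set G) := le_normalizer_of_cj fun q hq => by
    rw [cj, Subgroup.map_sup]
    exact sup_le ((cj_eq_self (hQB hq)).le.trans le_sup_left) ((cj_eq_self (hQB' hq)).le.trans le_sup_right)
  have hZY' : Z' ≤ Y := (cj_mono hZY).trans (cj_eq_self (le_normalizer g.2)).le
  have hcomm : ∀ z ∈ Z, ∀ q ∈ Q, z * q * z⁻¹ * q⁻¹ ∈ B := by
    intro z hz q hq
    refine Subgroup.mem_inf.2 ⟨?_, mul_mem ((Subgroup.mem_normalizer_iff.1 (hYQ (hZY hz)) q).1 hq) (inv_mem hq)⟩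
    have := mul_mem hz ((Subgroup.mem_normalizer_iff.1 (hQZ hq) _).1 (inv_mem hz))
    simpa [mul_assoc] using this
  have hcomm' : ∀ z ∈ Z', ∀ q ∈ Q, z * q * z⁻¹ * q⁻¹ ∈ B' := by
    intro z hz q hq
    rw [hB'eq]
    refine Subgroup.mem_inf.2 ⟨?_, mul_mem ((Subgroup.mem_normalizer_iff.1 (hYQ (hZY' hz)) q).1 hq) (inv_mem hq)⟩
    have := mul_mem hz ((Subgroup.mem_normalizer_iff.1 (hQZ' hq) _).1 (inv_mem hz))
    simpa [mul_assoc] using this
  set H := Z ⊔ Z' ⊔ W
  have hHY : H ≤ Y := sup_le (sup_le hZY hZY') (hWQ.trans (opIn_le Y))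
  have hHQ : H ≤ normalizer (Q : Set G) := hHY.trans hYQ
  have hWnorm : ∀ x : G, (∀ q ∈ Q, x * q * x⁻¹ * q⁻¹ ∈ W) → cj x W ≤ W := by
    rintro x hx _ ⟨w, hw, rfl⟩
    have := mul_mem (hx w (hWQ hw)) hw
    simpa [mul_assoc] using this
  have hHW : H ≤ normalizer (W : Set G) :=
    sup_le (sup_le (le_normalizer_of_cj fun z hz => hWnorm z fun q hq => mem_sup_left (hcomm z hz q hq))
      (le_normalizer_of_cj fun z hz => hWnorm z fun q hq => mem_sup_right (hcomm' z hz q hq))) le_normalizer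
  have hHQW : H ≤ secC W Q := by
    refine sup_le (sup_le (fun z hz => ?_) fun z hz => ?_) fun z hz => ?_
    · exact mem_secC.2 ⟨⟨hHW (mem_sup_left (mem_sup_left hz)), hYQ (hZY hz)⟩,
        fun q hq => mem_sup_left (hcomm z hz q hq)⟩
    · exact mem_secC.2 ⟨⟨hHW (mem_sup_left (mem_sup_right hz)), hYQ (hZY' hz)⟩,
        fun q hq => mem_sup_right (hcomm' z hz q hq)⟩
    · refine mem_secC.2 ⟨⟨le_normalizer hz, hYQ (hHY (mem_sup_right hz))⟩, fun q hq => ?_⟩
      have := mul_mem hz ((Subgroup.mem_normalizer_iff.1 (hQW hq) _).1 (inv_mem hz))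
      simpa [mul_assoc] using this
  have hHI : H ≤ centralizer (I : Set G) :=
    sup_le (sup_le (hZ.le_centralizer.trans (centralizer_le (inf_le_left.trans inf_le_left)))
      (hZ'.le_centralizer.trans (centralizer_le (inf_le_right.trans hB'Z))))
      (sup_le ((hZ.mono inf_le_left).le_centralizer.trans (centralizer_le inf_le_left))
        ((hZ'.mono hB'Z).le_centralizer.trans (centralizer_le inf_le_right)))
  have hBB' : B' ≤ normalizer (B : Set G) := hB'Q.trans hQB
  have hsq : ∀ w ∈ W, w * w ∈ I := by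
    intro w hw
    have hw2 : w ∈ B' ⊔ B := by rw [sup_comm]; exact hw
    obtain ⟨b', hb', b, hb, rfl⟩ := (Coprime.mem_sup_iff_of_le_normalizer hBB').1 hw2
    have hbb : b * b = 1 := hZ b hb.1
    have hbb' : b' * b' = 1 := hZ' b' (hB'Z hb')
    refine ⟨?_, ?_⟩
    · have h1 := mul_mem ((Subgroup.mem_normalizer_iff.1 (hBB' hb') b).1 hb) hb
      rw [inv_eq_of_mul_eq_one_right hbb'] at h1
      simpa [mul_assoc] using h1
    · have h1 := mul_mem hb' ((Subgroup.mem_normalizer_iff.1 (hQB' hb.2) b').1 hb')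
      rw [inv_eq_of_mul_eq_one_right hbb] at h1
      simpa [mul_assoc] using h1
  obtain ⟨K, hKH, hKn, hKodd, hKb⟩ := series_bound (Y := H) (U₀ := I)
    (k.hh.sub k.local_zc (hHY.trans k.le_local)).1 (k.hh.sub k.local_zc (hHY.trans k.le_local)).2
    (hHI.trans (centralizer_le_normalizer _)) W (inf_le_left.trans le_sup_left) le_sup_right hHW
    ((isPGroup_opIn Y).to_le hWQ) hsq Z (le_sup_left.trans le_sup_left) hZ
  -- `K` is a 2-group
  have hK2 : ∀ x ∈ K, Odd (orderOf x) → x = 1 := by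
    intro x hx ho
    have hW : x ∈ centralizer (W : Set G) := mem_centralizer_of_secC ((isPGroup_opIn Y).to_le hWQ)
      (inf_le_left.trans le_sup_left) ho (hKodd x hx ho) (hHI (hKH hx))
    have hQc : x ∈ centralizer (Q : Set G) :=
      mem_centralizer_of_secC (isPGroup_opIn Y) hWQ ho (hHQW (hKH hx)) hW
    have hxQ : x ∈ Q := k.cent ⟨hHY (hKH hx), hQc⟩
    obtain ⟨j, hj⟩ := (isPGroup_opIn Y) ⟨x, hxQ⟩
    exact orderOf_eq_one_iff.1 (Nat.eq_one_of_dvd_coprimes ((Nat.coprime_two_left.2 ho).pow_left j)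
      (orderOf_dvd_of_pow_eq_one (congrArg Subtype.val hj)) dvd_rfl)
  have hKZ : K ⊓ Z ≤ Q := by
    rintro z ⟨hzK, hzZ⟩
    set zY : Y := ⟨z, hZY hzZ⟩
    set a := π zY
    have haa : a * a = 1 := hZb a ⟨zY, hzZ, rfl⟩
    have hai : a⁻¹ = a := inv_eq_of_mul_eq_one_right haa
    have hzH : z ∈ H := mem_sup_left (mem_sup_left hzZ)
    have hnH : z * ((g : G) * z * (g : G)⁻¹) ∈ H :=
      mul_mem hzH (mem_sup_left (mem_sup_right (conj_mem_cj hzZ)))
    set n : Y := zY * (g * zY * g⁻¹) with hn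
    set u := π n with hu
    have hue : u = a * (π g * a * (π g)⁻¹) := by rw [hu, hn, map_mul, map_mul, map_mul, map_inv]
    have huF : u ∈ F := by
      rw [hue, show a * (π g * a * (π g)⁻¹) = a * π g * a⁻¹ * (π g)⁻¹ by rw [hai]; group]
      exact mul_mem (hFn.conj_mem _ hcF a) (inv_mem hcF)
    have hinv : a * u * a⁻¹ = u⁻¹ := by
      rw [hue]
      simp only [mul_inv_rev, inv_inv, hai]
      rw [show a * (a * (π g * a * (π g)⁻¹)) * a = a * a * (π g * a * (π g)⁻¹ * a) by group, haa, one_mul]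
      simp only [mul_assoc]
    have hnY : (n : G) = z * ((g : G) * z * (g : G)⁻¹) := rfl
    have hm : z * (n : G) * z⁻¹ * (n : G)⁻¹ ∈ K := by
      rw [hnY] at *
      have := mul_mem hzK ((Subgroup.mem_normalizer_iff.1 (hKn hnH) _).1 (inv_mem hzK))
      simpa [mul_assoc] using this
    obtain ⟨j, hj⟩ := exists_odd_pow (z * (n : G) * z⁻¹ * (n : G)⁻¹)
    have hj1 := hK2 _ (pow_mem hm _) hj
    have hπm : a * u * a⁻¹ * u⁻¹ = 1 := by
      have h1 : (a * u * a⁻¹ * u⁻¹) ^ 2 ^ j = 1 := by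
        rw [show a * u * a⁻¹ * u⁻¹ = π (zY * n * zY⁻¹ * n⁻¹) by simp [a, u], ← map_pow,
          show (zY * n * zY⁻¹ * n⁻¹) ^ 2 ^ j = 1 from Subtype.ext (by simpa [zY] using hj1), map_one]
      have h2 : a * u * a⁻¹ * u⁻¹ ∈ F := by
        rw [hinv]; exact mul_mem (inv_mem huF) (inv_mem huF)
      exact orderOf_eq_one_iff.1 (Nat.eq_one_of_dvd_coprimes ((Nat.coprime_two_left.2 hFodd).pow_left j)
        (orderOf_dvd_of_pow_eq_one h1) (Subgroup.orderOf_dvd_natCard F h2))
    have hu1 : u = 1 := by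
      have h1 : (u * u)⁻¹ = 1 := by rw [mul_inv_rev]; rw [hinv] at hπm; exact hπm
      rw [inv_eq_one] at h1
      exact orderOf_eq_one_iff.1 (Nat.eq_one_of_dvd_coprimes (Nat.coprime_two_left.2 hFodd)
        (orderOf_dvd_of_pow_eq_one (by rw [pow_two]; exact h1)) (Subgroup.orderOf_dvd_natCard F huF))
    refine (hQ zY).1 (hc a ⟨zY, hzZ, rfl⟩ ?_)
    rw [hue, mul_eq_one_iff_eq_inv, mul_inv_rev, mul_inv_rev, inv_inv, hai] at hu1
    calc a * π g = π g * (a * (π g)⁻¹) * π g := by rw [← hu1]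
      _ = π g * a := by group
  -- counting
  set α := Q.relIndex Z
  have hne : ∀ {H K : Subgroup G}, H.relIndex K ≠ 0 := Subgroup.index_ne_zero_of_finite
  have hα2 : 2 ≤ α := by
    by_contra h
    exact hcon (relIndex_eq_one.1 (by have := hne (H := Q) (K := Z); omega))
  have hpos : ∀ {H K : Subgroup G}, 0 < H.relIndex K := Nat.pos_of_ne_zero hne
  have hαK : α ≤ K.relIndex Z := by
    refine Nat.le_of_dvd hpos ?_
    rw [show α = (Q ⊓ Z).relIndex Z from (inf_relIndex_right Q Z).symm, ← inf_relIndex_right K Z]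
    exact relIndex_dvd_of_le_left Z (le_inf hKZ inf_le_right)
  set s := (centralizer (Z : Set G)).relIndex B'
  set s' := (centralizer (Z' : Set G)).relIndex B
  have hs : α ^ 2 ≤ s := by
    set F1 := fixSec I W Z
    refine ((Nat.pow_le_pow_left hαK 2).trans hKb).trans ?_
    have hF1W : F1 ≤ W := fun v hv => (mem_fixSec.1 hv).1.1
    have hIn : W ≤ normalizer (I : Set G) :=
      (le_sup_right.trans hHI).trans (centralizer_le_normalizer _)
    have hBF : B ≤ F1 := fun b hb => mem_fixSec.2 ⟨⟨mem_sup_left hb, hIn (mem_sup_left hb)⟩,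
      fun z hz => by rw [hZ.comm hz hb.1, mul_inv_cancel_right, mul_inv_cancel]; exact one_mem _⟩
    have hW' : F1 ⊔ B' = W := le_antisymm (sup_le hF1W le_sup_right) (sup_le_sup_right hBF _)
    rw [← hW', relIndex_sup_eq ((hF1W.trans hWQ).trans hQB'), ← inf_relIndex_right F1 B',
      show s = (centralizer (Z : Set G) ⊓ B').relIndex B' from (inf_relIndex_right _ _).symm]
    refine Nat.le_of_dvd hpos (relIndex_dvd_of_le_left B' (le_inf ?_ inf_le_right))
    intro b hb
    refine mem_fixSec.2 ⟨⟨mem_sup_right hb.2, hIn (mem_sup_right hb.2)⟩, fun z hz => ?_⟩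
    rw [mem_centralizer_iff.1 hb.1 z hz, mul_inv_cancel_right, mul_inv_cancel]
    exact one_mem _
  have hindex : ∀ {X Zx Bx : Subgroup G}, Bx ≤ Zx → Bx.relIndex Zx = α →
      (centralizer (X : Set G)).relIndex Zx ≤ (centralizer (X : Set G)).relIndex Bx * α := by
    intro X Zx Bx hB hα
    rw [← hα, ← inf_relIndex_right _ Bx, relIndex_mul_relIndex _ _ _ inf_le_right hB]
    exact Nat.le_of_dvd hpos (relIndex_dvd_of_le_left Zx inf_le_left)
  have hBα : B.relIndex Z = α := inf_relIndex_left Z Q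
  have h1 : s ^ 2 ≤ s' * α := by
    refine (k.ctx.bound k.hh (A := B') ((hB'Q.trans hQS).trans k.ctx.le)
      fun b hb => by rw [hZ' b (hB'Z hb)]; exact one_mem _).trans ((hindex inf_le_left hBα).trans ?_)
    refine Nat.mul_le_mul_right _ (Nat.le_of_dvd hpos (relIndex_dvd_of_le_left _ (centralizer_le hB'Z)))
  have h2 : s' ^ 2 ≤ s * α := by
    refine (k.ctx.bound_cj k.hh (g := (g : G)) (B := B) (inf_le_right.trans (hgQ.ge.trans (cj_mono (hQS.trans k.ctx.le))))
      fun b hb => by rw [hZ b hb.1]; exact one_mem _).trans ((hindex hB'Z ((relIndex_cj _ B Z).trans hBα)).trans ?_)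
    exact Nat.mul_le_mul_right _ (Nat.le_of_dvd hpos (relIndex_dvd_of_le_left _ (centralizer_le inf_le_left)))
  have h3 : s ^ 4 ≤ s * α ^ 3 := by
    calc s ^ 4 = (s ^ 2) ^ 2 := by ring
      _ ≤ (s' * α) ^ 2 := Nat.pow_le_pow_left h1 2
      _ = s' ^ 2 * α ^ 2 := by ring
      _ ≤ s * α * α ^ 2 := Nat.mul_le_mul_right _ h2
      _ = s * α ^ 3 := by ring
  have h4 : s ^ 3 ≤ α ^ 3 := Nat.le_of_mul_le_mul_left (by calc s * s ^ 3 = s ^ 4 := by ring
                                                             _ ≤ s * α ^ 3 := h3) (show 0 < s from hpos)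
  have h5 : s ≤ α := (Nat.pow_le_pow_iff_left (by norm_num)).1 h4
  nlinarith

set_option maxHeartbeats 1600000 in
/-- The key step. -/
theorem Key.false (k : Key M S Y) : False := by
  haveI : Fact (Nat.Prime 2) := ⟨Nat.prime_two⟩
  set Z := zclos M S
  set Q := opIn 2 Y
  have hZQ : Z ≤ Q := k.zclos_le_opIn
  have hQS : Q ≤ S := k.opIn_le_S k.hSY
  have hYQ : Y ≤ normalizer (Q : Set G) := le_normalizer_opIn Y
  have hne : ∀ {H K : Subgroup G}, H.relIndex K ≠ 0 := Subgroup.index_ne_zero_of_finite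
  have hpos : ∀ {H K : Subgroup G}, 0 < H.relIndex K := Nat.pos_of_ne_zero hne
  set V := clos Y Z with hVdef
  have hVQ : V ≤ Q := clos_le hZQ hYQ
  have hYV : Y ≤ normalizer (V : Set G) := le_normalizer_clos _ _
  have hZ : EA Z := k.ctx.EA_zclos k.hh
  have hVS : V ≤ S := hVQ.trans hQS
  -- `V` is elementary abelian
  have hcomm1 : ∀ y ∈ Y, cj y Z ≤ centralizer (Z : Set G) := fun y hy =>
    k.ctx.commute_cj k.hh (((cj_mono hZQ).trans (cj_eq_self (hYQ hy)).le).trans (hQS.trans k.ctx.le))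
      (hZQ.trans ((cj_eq_self (hYQ hy)).ge.trans (cj_mono (hQS.trans k.ctx.le))))
  have hVV : V ≤ centralizer (V : Set G) := by
    refine clos_le ?_ (PuigPair.le_normalizer_centralizer hYV)
    exact le_centralizer_iff.1 (iSup_le fun y => hcomm1 y y.2)
  have hV : EA V := by
    refine (EA_zc V).mono (clos_le (fun z hz => mem_zc.2 ⟨⟨le_clos Y Z hz, hVV (le_clos Y Z hz)⟩, hZ z hz⟩) ?_)
    exact hYV.trans (normalizer_le_normalizer_zc V)
  have hVY : V ≤ Y := hVQ.trans (opIn_le Y)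
  have hVp : IsPGroup 2 V := hV.isPGroup
  have hcv : centralizer (V : Set G) ≤ centralizer (Z : Set G) := centralizer_le (le_clos Y Z)
  have hCS : Y ⊓ centralizer (V : Set G) ⊓ S ≤ Q := by
    by_contra h
    refine k.hYM ((k.le_sup_of_not_le inf_le_left
      (PuigPair.le_normalizer_inf le_normalizer (PuigPair.le_normalizer_centralizer hYV)) h).trans ?_)
    exact sup_le (inf_le_right.trans (hcv.trans (k.ctx.centralizer_zclos_le k.hh))) k.ctx.le
  -- an element of `J(S)` outside `O₂(Y)`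
  obtain ⟨A, hA, hAQ⟩ : ∃ A, MaxEA S A ∧ ¬ A ≤ Q := by
    by_contra h
    push Not at h
    refine k.hYM (hYQ.trans ((normalizer_le_normalizer_jEA Q).trans ?_))
    rw [jEA_eq_of_le (sSup_le h) hQS]
    exact k.hJ
  have hAY : A ≤ Y := hA.1.trans k.hSY
  have hAV : A ≤ normalizer (V : Set G) := hAY.trans hYV
  have hAZ : A ≤ centralizer (Z : Set G) := k.ctx.maxEA_le k.hh hA
  set D := A ⊓ Q
  set a := Q.relIndex A
  set w := (centralizer (V : Set G)).relIndex D
  have ha2 : 2 ≤ a := by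
    by_contra h
    exact hAQ (relIndex_eq_one.1 (by have := hne (H := Q) (K := A); omega))
  have haw : (centralizer (V : Set G)).relIndex A = w * a := by
    have e : centralizer (V : Set G) ⊓ A = centralizer (V : Set G) ⊓ D :=
      le_antisymm (le_inf inf_le_left (le_inf inf_le_right fun x hx => hCS ⟨⟨hAY hx.2, hx.1⟩, hA.1 hx.2⟩))
        (inf_le_inf_left _ inf_le_left)
    rw [← inf_relIndex_right, e, show a = D.relIndex A from (inf_relIndex_left A Q).symm,
      show w = (centralizer (V : Set G) ⊓ D).relIndex D from (inf_relIndex_right _ _).symm]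
    exact (relIndex_mul_relIndex _ _ _ inf_le_right inf_le_left).symm
  set u := (centralizer (A : Set G)).relIndex V
  have hu1 : u ≤ w * a := haw ▸ hA.index_le hVS hV hAV
  have hsum : ∀ B ≤ Q, (∀ b ∈ B, b * b ∈ centralizer (V : Set G)) →
      (centralizer (V : Set G)).relIndex B ^ 2 ≤ (centralizer (B : Set G)).relIndex V := by
    intro B hB hsq
    classical
    haveI := Fintype.ofFinite Y
    have he : (⨆ y ∈ (Finset.univ : Finset Y), cj (y : G) Z) = V := by simp [hVdef, clos]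
    have := sum_bound (fun y : Y => cj (y : G) Z) Finset.univ B fun y _ B' hB' =>
      k.ctx.bound_cj k.hh (g := (y : G))
        ((hB'.trans hB).trans ((cj_eq_self (hYQ y.2)).ge.trans (cj_mono (hQS.trans k.ctx.le))))
        fun b hb => centralizer_le (cj_le_clos (A := Z) y.2) (hsq b (hB' hb))
    simp only [] at this
    rwa [he] at this
  have hAsq : ∀ x ∈ A, x * x = 1 := hA.2.1
  have hwD : w ^ 2 ≤ (centralizer (D : Set G)).relIndex V :=
    hsum D inf_le_right fun b hb => by rw [hAsq b hb.1]; exact one_mem _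
  have hDA : (centralizer (D : Set G)).relIndex V ≤ u :=
    Nat.le_of_dvd hpos (relIndex_dvd_of_le_left V (centralizer_le inf_le_left))
  -- the unique noncentral chief factor
  set N0 := oddGen Y
  set U := V ⊓ centralizer (N0 : Set G)
  have hYU : Y ≤ normalizer (U : Set G) :=
    PuigPair.le_normalizer_inf hYV (PuigPair.le_normalizer_centralizer (le_normalizer_oddGen Y))
  have hN0U : N0 ≤ centralizer (U : Set G) := le_centralizer_iff.1 inf_le_right
  have hVU : ¬ V ≤ U := by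
    intro h
    have h1 : N0 ≤ centralizer (Z : Set G) := (le_centralizer_iff.1 (h.trans inf_le_right)).trans hcv
    exact k.hYM (k.le_oddGen_sup.trans (sup_le (h1.trans (k.ctx.centralizer_zclos_le k.hh)) k.ctx.le))
  obtain ⟨W, ⟨hWV, hYW, hWU⟩, hWmin⟩ :=
    (Set.toFinite {W : Subgroup G | W ≤ V ∧ Y ≤ normalizer (W : Set G) ∧ ¬ W ≤ U}).exists_minimal
      ⟨V, le_rfl, hYV, hVU⟩
  set U0 := W ⊓ U
  have hYU0 : Y ≤ normalizer (U0 : Set G) := PuigPair.le_normalizer_inf hYW hYU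
  have hU0W : U0 < W := inf_le_left.lt_of_ne fun e => hWU (inf_eq_left.1 e)
  have hirr : ∀ T : Subgroup G, U0 ≤ T → T ≤ W → Y ≤ normalizer (T : Set G) → T = U0 ∨ T = W := by
    intro T h1 h2 h3
    by_cases hT : T ≤ U
    · exact Or.inl (le_antisymm (le_inf h2 hT) h1)
    · exact Or.inr (le_antisymm h2 (hWmin ⟨h2.trans hWV, h3, hT⟩ h2))
  have hKW : Y ⊓ secC U0 W ⊓ S ≤ Q := by
    by_contra h
    refine hWU (le_inf hWV (le_centralizer_iff.1 ?_))
    refine (closure_le _).2 ?_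
    rintro x ⟨hxY, hxo⟩
    exact mem_centralizer_of_secC (hVp.to_le hWV) inf_le_left hxo
      (k.odd_mem inf_le_left (PuigPair.le_normalizer_inf le_normalizer (le_normalizer_secC hYU0 hYW)) h hxY hxo).2
      (centralizer_le (inf_le_right : U0 ≤ U) (hN0U (subset_closure ⟨hxY, hxo⟩)))
  have hQK : Q ≤ secC U0 W := le_secC_of_irreducible hU0W (hWV.trans hVY) hYU0 hYW (hVp.to_le hWV) hirr
    (opIn_le Y) hYQ fun x hx => by
      obtain ⟨j, hj⟩ := isPGroup_opIn Y ⟨x, hx⟩
      exact ⟨j, by rw [show x ^ 2 ^ j = 1 from congrArg Subtype.val hj]; exact one_mem _⟩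
  set uW := (fixSec U0 W A).relIndex W
  have hua : a ^ 2 ≤ uW := by
    have h := section_bound (A := A) k.solvable k.free hU0W.le (hWV.trans hVY) hYU0 hYW
      (fun v hv => by rw [hV v (hWV hv)]; exact one_mem _)
      (fun L hL hLn _ hpow => le_secC_of_irreducible hU0W (hWV.trans hVY) hYU0 hYW (hVp.to_le hWV) hirr hL hLn hpow)
      hAY (fun x hx => by rw [hAsq x hx]; exact one_mem _)
    have e : (secC U0 W).relIndex A = a := relIndex_congr fun x hx =>
      ⟨fun h1 => hKW ⟨⟨hAY hx, h1⟩, hA.1 hx⟩, fun h1 => hQK h1⟩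
    rwa [e] at h
  have hWfix : uW ≤ (centralizer (A : Set G)).relIndex W := by
    rw [← inf_relIndex_right (centralizer (A : Set G)) W]
    refine Nat.le_of_dvd hpos (relIndex_dvd_of_le_left W ?_)
    rintro v ⟨hv, hvW⟩
    refine mem_fixSec.2 ⟨⟨hvW, hYU0 (hVY (hWV hvW))⟩, fun x hx => ?_⟩
    rw [mem_centralizer_iff.1 hv x hx, mul_inv_cancel_right, mul_inv_cancel]
    exact one_mem _
  have hWu : (centralizer (A : Set G)).relIndex W ≤ u := relIndex_le_of_le_right hWV hne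
  -- equalities
  have hwle : w ≤ a := by
    have := (hwD.trans hDA).trans hu1
    rw [pow_two] at this
    exact Nat.le_of_mul_le_mul_left this hpos
  have hale : a ≤ w := by
    have := ((hua.trans hWfix).trans hWu).trans hu1
    rw [pow_two, mul_comm w] at this
    exact Nat.le_of_mul_le_mul_left this (by omega)
  have hwa : w = a := le_antisymm hwle hale
  have hua2 : u = a ^ 2 := le_antisymm (by rw [pow_two]; exact hwa ▸ hu1) ((hua.trans hWfix).trans hWu)
  have hDu : (centralizer (D : Set G)).relIndex V = u := le_antisymm hDA (hua2.le.trans (hwa ▸ hwD))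
  have hWu' : (centralizer (A : Set G)).relIndex W = u := le_antisymm hWu (hua2.le.trans (hua.trans hWfix))
  have huW : uW = u := le_antisymm (hWfix.trans hWu) (hua2.le.trans hua)
  set C' := V ⊓ centralizer (A : Set G)
  have hCu : C'.relIndex V = u := by rw [show C' = centralizer (A : Set G) ⊓ V from inf_comm _ _, inf_relIndex_right]
  have hVWC : V ≤ C' ⊔ W := by
    have h1 := relIndex_mul_relIndex C' (C' ⊔ W) V le_sup_left (sup_le inf_le_left hWV)
    rw [relIndex_sup_eq ((inf_le_left.trans hVY).trans hYW),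
      show C'.relIndex W = (centralizer (A : Set G)).relIndex W from relIndex_congr fun x hx =>
        ⟨fun h => h.2, fun h => ⟨hWV hx, h⟩⟩, hWu', hCu] at h1
    exact relIndex_eq_one.1 (Nat.eq_of_mul_eq_mul_left (show 0 < u from hpos) (h1.trans (mul_one u).symm))
  have hCD : ∀ v ∈ V, v ∈ centralizer (D : Set G) → v ∈ centralizer (A : Set G) := by
    have h1 := relIndex_mul_relIndex C' (V ⊓ centralizer (D : Set G)) V
      (inf_le_inf_left V (centralizer_le inf_le_left)) inf_le_left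
    rw [show (V ⊓ centralizer (D : Set G)).relIndex V = u by rw [inf_relIndex_left, hDu], hCu] at h1
    have h2 : C'.relIndex (V ⊓ centralizer (D : Set G)) = 1 :=
      Nat.eq_of_mul_eq_mul_right (show 0 < u from hpos) (h1.trans (one_mul u).symm)
    exact fun v hv hvD => (relIndex_eq_one.1 h2 ⟨hv, hvD⟩).2
  have hfixW : fixSec U0 W A ≤ centralizer (A : Set G) := by
    have hle : centralizer (A : Set G) ⊓ W ≤ fixSec U0 W A := fun v hv =>
      mem_fixSec.2 ⟨⟨hv.2, hYU0 (hVY (hWV hv.2))⟩, fun x hx => by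
        rw [mem_centralizer_iff.1 hv.1 x hx, mul_inv_cancel_right, mul_inv_cancel]; exact one_mem _⟩
    have h1 := relIndex_mul_relIndex (centralizer (A : Set G) ⊓ W) (fixSec U0 W A) W hle
      (fun v hv => (mem_fixSec.1 hv).1.1)
    rw [inf_relIndex_right, hWu', show (fixSec U0 W A).relIndex W = u from huW] at h1
    have h2 : (centralizer (A : Set G) ⊓ W).relIndex (fixSec U0 W A) = 1 :=
      Nat.eq_of_mul_eq_mul_right (show 0 < u from hpos) (h1.trans (one_mul u).symm)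
    exact fun v hv => (relIndex_eq_one.1 h2 hv).1
  have hsplit : ∀ v ∈ V, ∃ c ∈ C', ∃ x ∈ W, c * x = v := fun v hv =>
    (Coprime.mem_sup_iff_of_le_normalizer ((inf_le_left.trans hVY).trans hYW)).1 (hVWC hv)
  have hAcomm : ∀ c ∈ C', ∀ x ∈ W, ∀ y ∈ A,
      y * (c * x) * y⁻¹ * (c * x)⁻¹ = y * x * y⁻¹ * x⁻¹ := by
    intro c hc x hx y hy
    have h1 : y * c = c * y := mem_centralizer_iff.1 hc.2 y hy
    have h2 : y * x * y⁻¹ * x⁻¹ ∈ V :=
      mul_mem ((Subgroup.mem_normalizer_iff.1 (hAV hy) x).1 (hWV hx)) (inv_mem (hWV hx))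
    calc y * (c * x) * y⁻¹ * (c * x)⁻¹ = (y * c) * x * y⁻¹ * x⁻¹ * c⁻¹ := by group
      _ = (c * y) * x * y⁻¹ * x⁻¹ * c⁻¹ := by rw [h1]
      _ = c * (y * x * y⁻¹ * x⁻¹) * c⁻¹ := by group
      _ = y * x * y⁻¹ * x⁻¹ := by rw [hV.comm hc.1 h2, mul_inv_cancel_right]
  -- (1) the normal closure of `A`
  set NA := clos Y A
  have hNAY : NA ≤ Y := clos_le hAY le_normalizer
  have hNA1 : NA ≤ secC W V := by
    refine clos_le (fun y hy => mem_secC.2 ⟨⟨hYW (hAY hy), hAV hy⟩, fun v hv => ?_⟩) (le_normalizer_secC hYW hYV)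
    obtain ⟨c, hc, x, hx, rfl⟩ := hsplit v hv
    rw [hAcomm c hc x hx y hy]
    exact mul_mem ((Subgroup.mem_normalizer_iff.1 (hYW (hAY hy)) x).1 hx) (inv_mem hx)
  have hNA0 : N0 ≤ NA := by
    refine (closure_le _).2 fun x hx => ?_
    refine k.odd_mem hNAY (le_normalizer_clos Y A) (fun h => hAQ fun y hy => h ⟨le_clos Y A hy, hA.1 hy⟩) hx.1 hx.2
  -- (2) `V = W Z`
  have hVWZ : V ≤ W ⊔ Z := by
    refine clos_le le_sup_right (k.le_oddGen_sup.trans (sup_le ?_ ?_))
    · refine le_normalizer_of_cj fun x hx => ?_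
      rw [cj, Subgroup.map_sup]
      refine sup_le ((cj_eq_self (hYW (oddGen_le Y hx))).le.trans le_sup_left) ?_
      rintro _ ⟨z, hz, rfl⟩
      have h1 : x * z * x⁻¹ * z⁻¹ ∈ W := (mem_secC.1 (hNA1 (hNA0 hx))).2 z (le_clos Y Z hz)
      have h2 : x * z * x⁻¹ * z⁻¹ * z ∈ W ⊔ Z := mul_mem (mem_sup_left h1) (mem_sup_right hz)
      simpa [mul_assoc] using h2
    · refine le_normalizer_of_cj fun x hx => ?_
      rw [cj, Subgroup.map_sup]
      exact sup_le ((cj_eq_self (hYW (k.hSY hx))).le.trans le_sup_left)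
        ((cj_eq_self (le_normalizer_clos M (zc S) (k.ctx.le hx))).le.trans le_sup_right)
  -- (3) `A` centralises `U`
  have hUA : U ≤ centralizer (A : Set G) := by
    intro v hv
    obtain ⟨c, hc, x, hx, rfl⟩ := hsplit v hv.1
    refine mul_mem hc.2 (hfixW (mem_fixSec.2 ⟨⟨hx, hYU0 (hVY (hWV hx))⟩, fun y hy => Subgroup.mem_inf.2 ⟨?_, ?_⟩⟩))
    · exact mul_mem ((Subgroup.mem_normalizer_iff.1 (hYW (hAY hy)) x).1 hx) (inv_mem hx)
    · rw [← hAcomm c hc x hx y hy]
      exact mul_mem ((Subgroup.mem_normalizer_iff.1 (hYU (hAY hy)) _).1 hv) (inv_mem hv)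
  have hNAU : NA ≤ centralizer (U : Set G) :=
    clos_le (le_centralizer_iff.1 hUA) (PuigPair.le_normalizer_centralizer hYU)
  -- (4) `O₂(Y)` centralises `V/U`
  have hZfix : ∀ z ∈ Z, z ∈ centralizer (A : Set G) := fun z hz => le_centralizer_iff.1 hAZ hz
  set X' := clos Y (closure {x : G | ∃ v ∈ V, ∃ q ∈ Q, q * v * q⁻¹ * v⁻¹ = x})
  have hgen : closure {x : G | ∃ v ∈ V, ∃ q ∈ Q, q * v * q⁻¹ * v⁻¹ = x} ≤ V ⊓ centralizer (A : Set G) := by
    refine (closure_le _).2 ?_
    rintro _ ⟨v, hv, q, hq, rfl⟩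
    refine Subgroup.mem_inf.2 ⟨mul_mem ((Subgroup.mem_normalizer_iff.1 (hYV (opIn_le Y hq)) v).1 hv) (inv_mem hv), ?_⟩
    obtain ⟨x, hx, z, hz, rfl⟩ :=
      (Coprime.mem_sup_iff_of_le_normalizer ((hWV.trans hVQ).trans (hQS.trans
        (k.ctx.le.trans (le_normalizer_clos M (zc S)))))).1 (hVWZ hv)
    have hzz : q * z * q⁻¹ * z⁻¹ ∈ Z :=
      mul_mem ((Subgroup.mem_normalizer_iff.1 (le_normalizer_clos M (zc S) (k.ctx.le (hQS hq))) z).1 hz) (inv_mem hz)
    have e : q * (x * z) * q⁻¹ * (x * z)⁻¹ =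
        q * x * q⁻¹ * x⁻¹ * (x * (q * z * q⁻¹ * z⁻¹) * x⁻¹) := by group
    rw [e, hV.comm (hWV hx) (le_clos Y Z hzz), mul_inv_cancel_right]
    exact mul_mem (hUA (((mem_secC.1 (hQK hq)).2 x hx).2)) (hZfix _ hzz)
  have hX'U : X' ≤ U := by
    have hXV : X' ≤ V := clos_le (hgen.trans inf_le_left) hYV
    have hXA : X' ≤ centralizer (A : Set G) := by
      refine iSup_le fun y => ?_
      intro x hx
      obtain ⟨x0, hx0, rfl⟩ := hx
      have hins : ∀ x ∈ closure {x : G | ∃ v ∈ V, ∃ q ∈ Q, q * v * q⁻¹ * v⁻¹ = x},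
          (y : G) * x * (y : G)⁻¹ ∈ closure {x : G | ∃ v ∈ V, ∃ q ∈ Q, q * v * q⁻¹ * v⁻¹ = x} := by
        intro x hx
        induction hx using closure_induction with
        | mem x hx =>
          obtain ⟨v, hv, q, hq, rfl⟩ := hx
          exact subset_closure ⟨(y : G) * v * (y : G)⁻¹, (Subgroup.mem_normalizer_iff.1 (hYV y.2) v).1 hv,
            (y : G) * q * (y : G)⁻¹, (Subgroup.mem_normalizer_iff.1 (hYQ y.2) q).1 hq, by group⟩
        | one => simp
        | mul a b _ _ h1 h2 => simpa [mul_assoc] using mul_mem h1 h2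
        | inv a _ h1 => simpa [mul_assoc] using inv_mem h1
      exact (hgen (hins x0 hx0)).2
    refine le_inf hXV (le_centralizer_iff.1 (hNA0.trans ?_))
    exact clos_le (le_centralizer_iff.1 hXA) (PuigPair.le_normalizer_centralizer (le_normalizer_clos _ _))
  have hQU : Q ≤ secC U V := fun q hq =>
    mem_secC.2 ⟨⟨hYU (opIn_le Y hq), hYV (opIn_le Y hq)⟩, fun v hv =>
      hX'U (le_clos _ _ (subset_closure ⟨v, hv, q, hq, rfl⟩))⟩
  -- (5) the module `V/U`
  have hUV : U ≤ V := inf_le_left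
  have hfixV : ∀ v ∈ fixSec U V A, v ∈ centralizer (A : Set G) := by
    intro v hv
    obtain ⟨⟨hvV, -⟩, hv2⟩ := mem_fixSec.1 hv
    obtain ⟨c, hc, x, hx, rfl⟩ := hsplit v hvV
    refine mul_mem hc.2 (hfixW (mem_fixSec.2 ⟨⟨hx, hYU0 (hVY (hWV hx))⟩, fun y hy => Subgroup.mem_inf.2 ⟨?_, ?_⟩⟩))
    · exact mul_mem ((Subgroup.mem_normalizer_iff.1 (hYW (hAY hy)) x).1 hx) (inv_mem hx)
    · rw [← hAcomm c hc x hx y hy]
      exact hv2 y hy
  have hCfix : ∀ v ∈ V, v ∈ centralizer (A : Set G) → v ∈ fixSec U V A := fun v hv hc =>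
    mem_fixSec.2 ⟨⟨hv, hYU (hVY hv)⟩, fun x hx => by
      rw [mem_centralizer_iff.1 hc x hx, mul_inv_cancel_right, mul_inv_cancel]; exact one_mem _⟩
  have hfixu : (fixSec U V A).relIndex V = u := relIndex_congr fun v hv =>
    ⟨fun h => hfixV v h, fun h => hCfix v hv h⟩
  have hno : ¬ ∀ x ∈ Y, Odd (orderOf x) → x ∈ secC U V := by
    intro h
    refine hVU (le_inf le_rfl (le_centralizer_iff.1 ((closure_le _).2 ?_)))
    rintro x ⟨hxY, hxo⟩
    exact mem_centralizer_of_secC hVp hUV hxo (h x hxY hxo) (hN0U (subset_closure ⟨hxY, hxo⟩))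
  have hKS : Y ⊓ secC U V ⊓ S ≤ Q := by
    by_contra h
    exact hno fun x hxY hxo => (k.odd_mem inf_le_left
      (PuigPair.le_normalizer_inf le_normalizer (le_normalizer_secC hYU hYV)) h hxY hxo).2
  have hsecA : (secC U V).relIndex A = a := relIndex_congr fun x hx =>
    ⟨fun h1 => hKS ⟨⟨hAY hx, h1⟩, hA.1 hx⟩, fun h1 => hQU h1⟩
  have hO2 : ∀ L : Subgroup G, L ≤ Y → Y ≤ normalizer (L : Set G) → Y ⊓ secC U V ≤ L →
      (∀ x ∈ L, ∃ j : ℕ, x ^ 2 ^ j ∈ secC U V) → L ≤ secC U V := by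
    intro L hL hLn hKL hpow
    have hLS : L ⊓ S ≤ Q := by
      by_contra h
      refine hno fun x hxY hxo => ?_
      obtain ⟨j, hj⟩ := hpow x (k.odd_mem hL hLn h hxY hxo)
      exact mem_of_pow_two_mem hxo hj
    haveI : (L.subgroupOf Y).Normal := normal_subgroupOf_of_le_normalizer hLn
    haveI : ((secC U V).subgroupOf Y).Normal := normal_subgroupOf_of_le_normalizer (le_normalizer_secC hYU hYV)
    have hp : IsPGroup 2 ((L.subgroupOf Y).map (QuotientGroup.mk' ((secC U V).subgroupOf Y))) := by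
      rintro ⟨_, ⟨x, hx, rfl⟩⟩
      obtain ⟨j, hj⟩ := hpow _ hx
      refine ⟨j, Subtype.ext ?_⟩
      rw [SubgroupClass.coe_pow, ← map_pow]
      exact (QuotientGroup.eq_one_iff _).2 (by rw [mem_subgroupOf]; simpa using hj)
    have hsup := Replacement.sylow_inf_sup_eq k.sylow (fun y hy => hKL ⟨y.2, hy⟩) hp
    intro x hx
    have hx' : (⟨x, hL hx⟩ : Y) ∈ L.subgroupOf Y := hx
    rw [← hsup] at hx'
    have hle : (k.sylow : Subgroup Y) ⊓ L.subgroupOf Y ⊔ (secC U V).subgroupOf Y ≤ (secC U V).subgroupOf Y :=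
      sup_le (fun y hy => hQU (hLS ⟨hy.2, hy.1⟩)) le_rfl
    exact hle hx'
  obtain ⟨y0, hy0, c, hc, Y₀, ⟨n, hn, hrn⟩, hY1, hY2, hY3, v0, hv0, hv0'⟩ :=
    section_eq (A := A) k.solvable k.free hUV hVY hYU hYV (fun v hv => by rw [hV v hv]; exact one_mem _)
      hO2 hAY (fun x hx => by rw [hAsq x hx]; exact one_mem _)
      (fun h => by
        have h1 : (secC U V).relIndex A = 1 := relIndex_eq_one.2 h
        omega)
      (by rw [hfixu, hsecA, hua2])
  set r := c⁻¹ * y0 * c * y0 with hr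
  rw [hsecA] at hY3
  have hy0Y : y0 ∈ Y := hAY hy0
  have hrY : r ∈ Y := mul_mem (mul_mem (mul_mem (inv_mem hc) hy0Y) hc) hy0Y
  have hrNA : r ∈ NA := by
    refine mul_mem ?_ (le_clos Y A hy0)
    simpa using cj_le_clos (A := A) (inv_mem hc) (conj_mem_cj (g := c⁻¹) hy0)
  have hy0i : y0⁻¹ = y0 := inv_eq_of_mul_eq_one_right (hAsq y0 hy0)
  have hrinv : y0 * r * y0 = r⁻¹ := by
    simp only [r, mul_inv_rev, inv_inv, hy0i]
    calc y0 * (c⁻¹ * y0 * c * y0) * y0 = y0 * c⁻¹ * y0 * c * (y0 * y0) := by group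
      _ = y0 * c⁻¹ * y0 * c := by rw [hAsq y0 hy0, mul_one]
      _ = y0 * (c⁻¹ * (y0 * c)) := by group
  -- the module generated by `D`
  set M0 := clos (zpowers r) D
  have hzY : zpowers r ≤ Y := zpowers_le.2 hrY
  have hM0Q : M0 ≤ Q := clos_le inf_le_right (hzY.trans hYQ)
  have hM0T : M0 ≤ secC U V ⊓ centralizer (U : Set G) := by
    refine clos_le (le_inf (inf_le_right.trans hQU) ((inf_le_left.trans (le_centralizer_iff.1 hUA)))) ?_
    exact hzY.trans (PuigPair.le_normalizer_inf (le_normalizer_secC hYU hYV) (PuigPair.le_normalizer_centralizer hYU))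
  have hM0sq : ∀ b ∈ M0, b * b ∈ centralizer (V : Set G) := fun b hb => sq_mem_centralizer hV hUV (hM0T hb)
  -- its centraliser contains `Y₀`
  have hY0C : Y₀ ≤ centralizer (M0 : Set G) := by
    intro y hy
    have hyA := hfixV y (hY1 hy)
    have hyV : y ∈ V := (mem_fixSec.1 (hY1 hy)).1.1
    suffices h : M0 ≤ centralizer ({y} : Set G) from
      mem_centralizer_iff.2 fun m hm => mem_centralizer_singleton_iff.1 (h hm)
    refine iSup_le fun i => ?_
    rintro _ ⟨d, hd, rfl⟩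
    obtain ⟨j, hj⟩ := i.2
    have hU1 : (i : G)⁻¹ * y * (i : G) * y⁻¹ ∈ U := by
      haveI : (U.subgroupOf Y).Normal := normal_subgroupOf_of_le_normalizer hYU
      set π := QuotientGroup.mk' (U.subgroupOf Y)
      have hcm : Commute (π ⟨r, hrY⟩) (π ⟨y, hVY hyV⟩) := by
        refine (commute_iff_section π).2 ?_
        rw [QuotientGroup.ker_mk', mem_subgroupOf]
        exact hY2 y hy
      have h2 := (hcm.zpow_left (-j)).eq
      rw [← map_zpow, commute_iff_section, QuotientGroup.ker_mk', mem_subgroupOf] at h2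
      rw [← hj]
      simpa using h2
    set κ := (i : G)⁻¹ * y * (i : G) * y⁻¹ with hκ
    have hdA : d ∈ A := hd.1
    have h3 : d * (κ * y) = κ * y * d := mem_centralizer_iff.1 (mul_mem (hUA hU1) hyA) d hdA
    rw [mem_centralizer_singleton_iff]
    show (i : G) * d * (i : G)⁻¹ * y = y * ((i : G) * d * (i : G)⁻¹)
    calc (i : G) * d * (i : G)⁻¹ * y = (i : G) * (d * (κ * y)) * (i : G)⁻¹ := by simp only [κ]; group
      _ = (i : G) * (κ * y * d) * (i : G)⁻¹ := by rw [h3]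
      _ = y * ((i : G) * d * (i : G)⁻¹) := by simp only [κ]; group
  set m := (centralizer (V : Set G)).relIndex M0
  have hm : m ≤ 2 * a := by
    have h1 := hsum M0 hM0Q hM0sq
    have h2 : (centralizer (M0 : Set G)).relIndex V ≤ Y₀.relIndex V :=
      Nat.le_of_dvd hpos (relIndex_dvd_of_le_left V hY0C)
    have h3 : m ^ 2 ≤ (2 * a) ^ 2 := (h1.trans (h2.trans hY3)).trans (le_of_eq (by ring))
    exact (Nat.pow_le_pow_iff_left (by norm_num)).1 h3
  -- the action on `M0` modulo `C(V)`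
  haveI : ((centralizer (V : Set G)).subgroupOf Y).Normal :=
    normal_subgroupOf_of_le_normalizer (PuigPair.le_normalizer_centralizer hYV)
  set π := QuotientGroup.mk' ((centralizer (V : Set G)).subgroupOf Y)
  have hπ : ∀ x : Y, π x = 1 ↔ (x : G) ∈ centralizer (V : Set G) := fun x => QuotientGroup.eq_one_iff x
  set Mb := (M0.subgroupOf Y).map π
  have hM0Y : M0 ≤ Y := hM0Q.trans (opIn_le Y)
  have hMnorm : ∀ x : Y, (x : G) ∈ normalizer (M0 : Set G) → π x ∈ normalizer (Mb : Set _) := by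
    intro x hx
    refine Subgroup.le_normalizer_map π (mem_map_of_mem π (?_ : x ∈ normalizer ((M0.subgroupOf Y : Subgroup Y) : Set Y)))
    exact Subgroup.mem_normalizer_iff.2 fun w => Subgroup.mem_normalizer_iff.1 hx (w : G)
  have hy0n : y0 ∈ normalizer (M0 : Set G) := by
    refine le_normalizer_of_cj (H := zpowers y0) (fun g hg => ?_) (mem_zpowers y0)
    obtain ⟨t, rfl⟩ := hg
    have hfix : cj y0 M0 ≤ M0 := by
      rw [cj, show M0 = ⨆ h : zpowers r, TwoLocalFree.cj (h : G) D from rfl, Subgroup.map_iSup]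
      refine iSup_le fun i => ?_
      refine (cj_mul y0 (i : G) D).ge.trans ?_
      have hinv : y0 * (i : G) = (i : G)⁻¹ * y0 := by
        obtain ⟨j, hj⟩ := i.2
        rw [← hj]
        have h1 : (MulAut.conj y0) (r ^ j) = (r⁻¹) ^ j := by
          rw [map_zpow, MulAut.conj_apply, hy0i, hrinv]
        rw [MulAut.conj_apply, inv_zpow] at h1
        simp only
        rw [← h1]; group
      rw [hinv, cj_mul, cj_eq_self (X := D) (g := y0) (PuigPair.le_normalizer_inf (le_normalizer)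
        (hAY.trans hYQ) hy0)]
      exact cj_le_clos (inv_mem i.2)
    rcases Int.even_or_odd t with ⟨s, rfl⟩ | ⟨s, rfl⟩
    · simp only
      rw [← two_mul, zpow_mul, zpow_two, hAsq y0 hy0, one_zpow, cj_one]
    · simp only
      rw [zpow_add_one, zpow_mul, zpow_two, hAsq y0 hy0, one_zpow, one_mul]
      exact hfix
  have hrn' : r ∈ normalizer (M0 : Set G) := le_normalizer_clos (zpowers r) D (mem_zpowers r)
  have key := transvection_group (H := Y ⧸ (centralizer (V : Set G)).subgroupOf Y)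
    (fun h => k.free (PComplement.involves_of_quotient h)) (U := Mb)
    (by rintro _ ⟨x, hx, rfl⟩; rw [← map_mul, hπ]; exact hM0sq _ hx)
    (z := π ⟨y0, hy0Y⟩) (r := π ⟨r, hrY⟩) (hMnorm _ hy0n) (hMnorm _ hrn')
    (by
      rw [← map_mul, show (⟨y0, hy0Y⟩ : Y) * ⟨y0, hy0Y⟩ = 1 from Subtype.ext (hAsq y0 hy0), map_one]
      exact one_mem _)
    (by
      rw [← map_mul, ← map_mul, ← map_mul,
        show (⟨y0, hy0Y⟩ : Y) * ⟨r, hrY⟩ * ⟨y0, hy0Y⟩ * ⟨r, hrY⟩ = 1 from
          Subtype.ext (show y0 * r * y0 * r = 1 by rw [hrinv, inv_mul_cancel]), map_one]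
      exact one_mem _)
    hn
    (by
      rw [← map_pow, mem_centralizer_iff]
      rintro _ ⟨x, hx, rfl⟩
      refine ((commute_iff_section π).2 ?_).symm
      rw [QuotientGroup.ker_mk', mem_subgroupOf]
      simpa using commutator_mem_centralizer hV hUV (l := r ^ n) (m := (x : G))
        ⟨hrn, pow_mem (hNAU hrNA) n⟩ (hM0T hx))
    (by
      set CV := centralizer (V : Set G) ⊓ M0
      set E := D ⊔ CV
      have hDM : D ≤ M0 := le_clos _ _
      have h1 : ∀ x : Y, x ∈ E.subgroupOf Y → x ∈ (centralizer ({π ⟨y0, hy0Y⟩} : Set _)).comap π := by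
        intro x hx
        rw [mem_comap, mem_centralizer_singleton_iff]
        obtain ⟨d, hd, e, he, hde⟩ := (Coprime.mem_sup_iff_of_le_normalizer
          (H := D) (N := CV) (PuigPair.le_normalizer_inf
            ((inf_le_left.trans hAY).trans (PuigPair.le_normalizer_centralizer hYV))
            (hDM.trans le_normalizer))).1 (mem_subgroupOf.1 hx)
        have hx' : x = ⟨d, hM0Y (hDM hd)⟩ * ⟨e, hM0Y he.2⟩ := Subtype.ext hde.symm
        rw [hx', map_mul, show π ⟨e, hM0Y he.2⟩ = 1 from (hπ _).2 he.1, mul_one, ← map_mul, ← map_mul]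
        exact congrArg π (Subtype.ext (hA.2.1.comm hd.1 hy0))
      rw [← relIndex_comap]
      refine (Nat.le_of_dvd (Nat.pos_of_ne_zero Subgroup.index_ne_zero_of_finite)
        (relIndex_dvd_of_le_left (M0.subgroupOf Y) (show E.subgroupOf Y ≤ _ from h1))).trans ?_
      show (E.subgroupOf Y).relIndex (M0.subgroupOf Y) ≤ 2
      rw [relIndex_subgroupOf hM0Y]
      have e1 : CV.relIndex E = w := by
        rw [Coprime.relIndex_sup_right_of_le_normalizer (PuigPair.le_normalizer_inf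
            ((inf_le_left.trans hAY).trans (PuigPair.le_normalizer_centralizer hYV))
            (hDM.trans le_normalizer))]
        exact relIndex_congr fun x hx => ⟨fun h => h.1, fun h => ⟨h, hDM hx⟩⟩
      have e2 := relIndex_mul_relIndex CV E M0 le_sup_right (sup_le hDM inf_le_right)
      rw [e1, show CV.relIndex M0 = m from inf_relIndex_right _ _] at e2
      by_contra h
      have h3 : a * 3 ≤ w * E.relIndex M0 := hwa ▸ Nat.mul_le_mul_left a (show 3 ≤ E.relIndex M0 by omega)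
      omega)
  -- hence `r` leaves `C_V(A)` invariant
  apply hv0'
  have hv0V : v0 ∈ V := (mem_fixSec.1 hv0).1.1
  have hrv : r * v0 * r⁻¹ ∈ V := (Subgroup.mem_normalizer_iff.1 (hYV hrY) v0).1 hv0V
  refine hCfix _ hrv (hCD _ hrv (mem_centralizer_iff.2 fun d hd => ?_))
  have hdY : d ∈ Y := hAY hd.1
  have hcm : Commute (π ⟨r, hrY⟩) (π ⟨d, hdY⟩) :=
    (mem_centralizer_iff.1 key _ ⟨⟨d, hdY⟩, le_clos (zpowers r) D hd, rfl⟩).symm
  have h2 := hcm.inv_left.eq
  rw [← map_inv, commute_iff_section, QuotientGroup.ker_mk', mem_subgroupOf] at h2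
  set κ := r⁻¹ * d * r * d⁻¹ with hκ
  have hκ' : κ ∈ centralizer (V : Set G) := by simpa [κ] using h2
  have h4 : d * v0 = v0 * d := mem_centralizer_iff.1 (hfixV v0 hv0) d hd.1
  have h5 : v0 * κ = κ * v0 := mem_centralizer_iff.1 hκ' v0 hv0V
  calc d * (r * v0 * r⁻¹) = r * (κ * (d * v0)) * r⁻¹ := by simp only [κ]; group
    _ = r * (κ * v0 * d) * r⁻¹ := by rw [h4, ← mul_assoc κ v0 d]
    _ = r * (v0 * κ * d) * r⁻¹ := by rw [h5]
    _ = r * v0 * r⁻¹ * d := by simp only [κ]; group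

end Cfsg.Agent.TwoLocalFree
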